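import Groth.Agent.Lib.MonoMT14.ClopenImage
import Groth.Agent.Lib.WeakEtale.Basic

/-!
Scheme theoretic images which are subgroups fpqc locally on the base.
-/

universe u

open CategoryTheory MonoidalCategory CartesianMonoidalCategory MonObj GrpObj AlgebraicGeometry
open CategoryTheory.Limits

namespace GrothLib.MonoMT14

open GrothLib.DiagGrp GrothLib.SubTorus14

variable {S S' : Scheme.{u}} (π : S' ⟶ S) [Flat π] [Surjective π]

theorem fst_flat_surjective (A : Over S) {W : Scheme.{u}} (f : W ⟶ S) [Flat f] [Surjective f] :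
    Flat (pullback.fst A.hom f) ∧ Surjective (pullback.fst A.hom f) :=
  ⟨MorphismProperty.pullback_fst (P := @Flat) _ _ ‹Flat f›,
    MorphismProperty.pullback_fst (P := @Surjective) _ _ ‹Surjective f›⟩

/-- Flatness and surjectivity descend along a flat surjective base change. -/
theorem flat_surjective_of_bc {A B : Over S} (v : A ⟶ B) (hf : Flat ((Over.pullback π).map v).left)
    (hs : Surjective ((Over.pullback π).map v).left) : Flat v.left ∧ Surjective v.left := by
  obtain ⟨hA, hA'⟩ := fst_flat_surjective A π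
  obtain ⟨hB, hB'⟩ := fst_flat_surjective B π
  have sq : pullback.fst A.hom π ≫ v.left = ((Over.pullback π).map v).left ≫ pullback.fst B.hom π :=
    (isPullback_overMap v π).w.symm
  haveI : Flat (pullback.fst A.hom π ≫ v.left) := by rw [sq]; infer_instance
  haveI : Surjective (pullback.fst A.hom π ≫ v.left) := by rw [sq]; infer_instance
  exact ⟨GrothLib.WeakEtale.flat_of_comp_flat_surjective (pullback.fst A.hom π) v.left,
    Surjective.of_comp (pullback.fst A.hom π) v.left⟩

/-- A closed immersion which is an isomorphism after a flat surjective base change is one. -/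
theorem isIso_of_bc {A B : Over S} (v : A ⟶ B) [IsClosedImmersion v.left]
    (h : IsIso ((Over.pullback π).map v).left) : IsIso v.left := by
  obtain ⟨hf, hs⟩ := flat_surjective_of_bc π v inferInstance inferInstance
  haveI : IsIso (pullback.fst v.left v.left) := isIso_fst_of_mono _
  exact MorphismProperty.of_isPullback_of_descendsAlong (P := MorphismProperty.isomorphisms Scheme.{u})
    (Q := @Surjective ⊓ @Flat ⊓ @QuasiCompact) (IsPullback.of_hasPullback v.left v.left)
    ⟨⟨hs, hf⟩, inferInstance⟩ ‹IsIso (pullback.fst v.left v.left)›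

variable {A G : Over S} [GrpObj A] [GrpObj G]

set_option maxHeartbeats 1000000 in
/-- A homomorphism which is fpqc locally a faithfully flat one followed by a closed subgroup is one globally. -/
theorem exists_image_fpqc (u : A ⟶ G) [IsMonHom u] [QuasiCompact u.left]
    (hloc : ∀ s' : S', ∃ (U : S'.Opens) (V : (U : Scheme.{u}).Opens) (B : Over (V : Scheme.{u})) (_ : GrpObj B)
      (c : Red.bc V.ι (Red.bc (U.ι ≫ π) A) ⟶ B) (d : B ⟶ Red.bc V.ι (Red.bc (U.ι ≫ π) G)),
      s' ∈ Set.range (V.ι ≫ U.ι) ∧ Flat c.left ∧ Surjective c.left ∧ QuasiCompact c.left ∧ IsMonHom d ∧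
        IsClosedImmersion d.left ∧ c ≫ d = (Over.pullback V.ι).map ((Over.pullback (U.ι ≫ π)).map u)) :
    ∃ (Q : Over S) (_ : GrpObj Q) (j : Q ⟶ G) (_ : IsMonHom j) (q : A ⟶ Q) (_ : IsMonHom q),
      IsClosedImmersion j.left ∧ Flat q.left ∧ Surjective q.left ∧ q ≫ j = u ∧
      ∀ (U : S'.Opens) (V : (U : Scheme.{u}).Opens) (B : Over (V : Scheme.{u})) [GrpObj B]
        (c : Red.bc V.ι (Red.bc (U.ι ≫ π) A) ⟶ B) (d : B ⟶ Red.bc V.ι (Red.bc (U.ι ≫ π) G)),
        Flat c.left → Surjective c.left → QuasiCompact c.left → IsMonHom d → IsClosedImmersion d.left →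
        c ≫ d = (Over.pullback V.ι).map ((Over.pullback (U.ι ≫ π)).map u) →
        Nonempty (Grp.mk (Red.bc V.ι (Red.bc (U.ι ≫ π) Q)) ≅ Grp.mk B) := by
  let Q : Over S := Over.mk (u.left.imageι ≫ G.hom)
  let j : Q ⟶ G := Over.homMk u.left.imageι rfl
  let q : A ⟶ Q := Over.homMk u.left.toImage (by
    change u.left.toImage ≫ u.left.imageι ≫ G.hom = A.hom
    rw [Scheme.Hom.toImage_imageι_assoc, Over.w u])
  haveI hj : IsClosedImmersion j.left := inferInstanceAs (IsClosedImmersion u.left.imageι)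
  have hjk : j.left.ker = u.left.ker := Scheme.IdealSheafData.ker_subschemeι u.left.ker
  haveI : Mono j := (Over.forget S).mono_of_mono_map (inferInstanceAs (Mono u.left.imageι))
  have hqj : q ≫ j = u := Over.OverMorphism.ext u.left.toImage_imageι
  -- on a chart the image is the given subgroup
  have key : ∀ (U : S'.Opens) (V : (U : Scheme.{u}).Opens) (B : Over (V : Scheme.{u})) (c : Red.bc V.ι (Red.bc (U.ι ≫ π) A) ⟶ B)
      (d : B ⟶ Red.bc V.ι (Red.bc (U.ι ≫ π) G)), Flat c.left → Surjective c.left → QuasiCompact c.left →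
      IsClosedImmersion d.left → c ≫ d = (Over.pullback V.ι).map ((Over.pullback (U.ι ≫ π)).map u) →
      ∃ e : Red.bc V.ι (Red.bc (U.ι ≫ π) Q) ≅ B, e.hom ≫ d = (Over.pullback V.ι).map ((Over.pullback (U.ι ≫ π)).map j) := by
    intro U V B c d hc₁ hc₂ hc₃ hd hcd
    haveI := hc₁
    haveI := hc₂
    haveI := hc₃
    haveI := hd
    haveI := dominant_of_fpqc c.left
    haveI : QuasiCompact ((Over.pullback (U.ι ≫ π)).map u).left :=
      MorphismProperty.baseChange_map (P := @QuasiCompact) (U.ι ≫ π) u ‹_›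
    haveI hju : IsClosedImmersion ((Over.pullback (U.ι ≫ π)).map j).left :=
      MorphismProperty.baseChange_map (P := @IsClosedImmersion) (U.ι ≫ π) j hj
    haveI hjg : IsClosedImmersion ((Over.pullback V.ι).map ((Over.pullback (U.ι ≫ π)).map j)).left :=
      MorphismProperty.baseChange_map (P := @IsClosedImmersion) V.ι ((Over.pullback (U.ι ≫ π)).map j) hju
    have hstep : ∀ {X : Scheme.{u}} {Y : Scheme.{u}} {A₁ A₂ : Over X} (h : Y ⟶ X) [Flat h] (v : A₁ ⟶ A₂)
        [QuasiCompact v.left],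
        ((Over.pullback h).map v).left.ker = v.left.ker.comap (pullback.fst A₂.hom h) := fun h _ v _ =>
      GrothLib.AlgSp.ker_comap_of_flat (isPullback_overMap v h).flip
    have hk : ((Over.pullback V.ι).map ((Over.pullback (U.ι ≫ π)).map j)).left.ker = d.left.ker := by
      have h2 : ((Over.pullback V.ι).map ((Over.pullback (U.ι ≫ π)).map u)).left.ker = d.left.ker := by
        rw [← hcd, Over.comp_left, Scheme.Hom.ker_comp, c.left.ker_eq_bot, Scheme.IdealSheafData.map_bot]
      rw [← h2, hstep, hstep V.ι ((Over.pullback (U.ι ≫ π)).map u), hstep, hstep, hjk]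
    let e₀ := IsClosedImmersion.lift d.left ((Over.pullback V.ι).map ((Over.pullback (U.ι ≫ π)).map j)).left hk.ge
    have he₀ : e₀ ≫ d.left = ((Over.pullback V.ι).map ((Over.pullback (U.ι ≫ π)).map j)).left := IsClosedImmersion.lift_fac _ _ _
    haveI : IsIso e₀ := IsClosedImmersion.isIso_of_ker_eq _ _ e₀ he₀ hk
    refine ⟨Over.isoMk (asIso e₀) ?_, Over.OverMorphism.ext he₀⟩
    change e₀ ≫ B.hom = _
    rw [← Over.w d, ← Category.assoc, he₀]
    exact Over.w _
  choose U V B gB c d hsW hc₁ hc₂ hc₃ hd₁ hd₂ hcd using hloc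
  let 𝒰 : S'.OpenCover := Scheme.openCoverOfIsOpenCover S' (fun x => ((V x).ι ≫ (U x).ι).opensRange)
    (TopologicalSpace.IsOpenCover.mk (eq_top_iff.mpr fun x _ => TopologicalSpace.Opens.mem_iSup.mpr ⟨x, hsW x⟩))
  have hl : ∀ x, ∃ a : 𝒰.X x ⟶ (V x : Scheme.{u}), a ≫ (V x).ι ≫ (U x).ι = 𝒰.f x := fun x =>
    ⟨IsOpenImmersion.lift ((V x).ι ≫ (U x).ι) (𝒰.f x) (le_of_eq (Scheme.Opens.range_ι _)),
      IsOpenImmersion.lift_fac _ _ _⟩
  -- factorisation through the image is tested on the charts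
  have htest : ∀ (T : Over S) (z : T ⟶ G),
      (∀ (U : S'.Opens) (V : (U : Scheme.{u}).Opens) (B : Over (V : Scheme.{u})) (_ : GrpObj B)
        (d : B ⟶ Red.bc V.ι (Red.bc (U.ι ≫ π) G)), IsMonHom d →
        (∀ (Y : Over (V : Scheme.{u})) (y : Y ⟶ Red.bc V.ι (Red.bc (U.ι ≫ π) Q)), ∃ b : Y ⟶ B,
          b ≫ d = y ≫ (Over.pullback V.ι).map ((Over.pullback (U.ι ≫ π)).map j)) →
        (∀ (Y : Over (V : Scheme.{u})) (b : Y ⟶ B), ∃ y : Y ⟶ Red.bc V.ι (Red.bc (U.ι ≫ π) Q),
          y ≫ (Over.pullback V.ι).map ((Over.pullback (U.ι ≫ π)).map j) = b ≫ d) →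
        ∀ (Y : Over (V : Scheme.{u})) (t : Y ⟶ Red.bc V.ι (Red.bc (U.ι ≫ π) T)), ∃ y : Y ⟶ Red.bc V.ι (Red.bc (U.ι ≫ π) Q),
          y ≫ (Over.pullback V.ι).map ((Over.pullback (U.ι ≫ π)).map j) = t ≫ (Over.pullback V.ι).map ((Over.pullback (U.ι ≫ π)).map z)) →
      ∃ y : T ⟶ Q, y ≫ j = z := by
    intro T z hz
    haveI : IsClosedImmersion (pullback.fst z j).left :=
      MorphismProperty.of_isPullback (P := @IsClosedImmersion)
        ((IsPullback.of_hasPullback z j).map (Over.forget S)).flip hj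
    have hone1 : ∀ s : S', IsIso ((Over.pullback (𝒰.f s ≫ π)).map (pullback.fst z j)).left := fun (s : S') => by
        refine (factor_iff_isIso z j _).mp ?_
        obtain ⟨a, ha⟩ := hl s
        have hfac : Factor z j ((V s).ι ≫ (U s).ι ≫ π) := by
          intro Y τ hτ t
          set f := (U s).ι ≫ π
          set g := (V s).ι
          let k : (Over.map f).obj ((Over.map g).obj (Over.mk τ)) ≅ Y := Over.isoMk (Iso.refl _) (by
            change 𝟙 _ ≫ Y.hom = (τ ≫ g) ≫ f
            rw [Category.id_comp, Category.assoc, hτ])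
          obtain ⟨e, he⟩ := key (U s) (V s) (B s) (c s) (d s) (hc₁ s) (hc₂ s) (hc₃ s) (hd₂ s) (hcd s)
          obtain ⟨y, hy⟩ := hz (U s) (V s) (B s) (gB s) (d s) (hd₁ s)
            (fun Y y => ⟨y ≫ e.hom, by rw [Category.assoc, he]⟩)
            (fun Y b => ⟨b ≫ e.inv, by rw [Category.assoc, ← he, Iso.inv_hom_id_assoc]⟩)
            (Over.mk τ) (bcPoint g (Red.bc f T) _ (bcPoint f T _ (k.hom ≫ t)))
          refine ⟨k.inv ≫ (bcPoint f Q _).symm ((bcPoint g (Red.bc f Q) _).symm y), ?_⟩
          rw [Category.assoc, Iso.inv_comp_eq, ← (bcPoint f G _).injective.eq_iff, bcPoint_comp_right,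
            Equiv.apply_symm_apply, ← (bcPoint g (Red.bc f G) _).injective.eq_iff, bcPoint_comp_right,
            Equiv.apply_symm_apply, hy, ← bcPoint_comp_right, ← bcPoint_comp_right, Category.assoc]
        exact hfac.precomp a _ (by rw [← ha]; simp only [Category.assoc])
    have h1 : IsIso ((Over.pullback π).map (pullback.fst z j)).left :=
      of_baseCover (MorphismProperty.isomorphisms Scheme.{u}) (pullback.fst z j) π 𝒰 hone1
    haveI := isIso_of_bc π (pullback.fst z j) h1
    haveI : IsIso (pullback.fst z j) :=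
      haveI : IsIso ((Over.forget S).map (pullback.fst z j)) := this
      isIso_of_reflects_iso _ (Over.forget S)
    exact ⟨inv (pullback.fst z j) ≫ pullback.snd z j, by
      rw [Category.assoc, ← pullback.condition, IsIso.inv_hom_id_assoc]⟩
  obtain ⟨gQ, hgQ⟩ := GrothLib.EssFree.exists_grpObj_of_mono j
    (fun T => htest T 1 fun U V B _ d hd hQB hBQ Y t => by
      obtain ⟨y, hy⟩ := hBQ Y 1
      refine ⟨y, hy.trans ?_⟩
      rw [MonObj.one_comp, Functor.map_one, Functor.map_one, MonObj.comp_one])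
    (fun T a b => htest T _ fun U V B _ d hd hQB hBQ Y t => by
      obtain ⟨a', ha⟩ := hQB Y (t ≫ (Over.pullback V.ι).map ((Over.pullback (U.ι ≫ π)).map a))
      obtain ⟨b', hb⟩ := hQB Y (t ≫ (Over.pullback V.ι).map ((Over.pullback (U.ι ≫ π)).map b))
      obtain ⟨y, hy⟩ := hBQ Y (a' * b')
      refine ⟨y, hy.trans ?_⟩
      rw [MonObj.mul_comp, ha, hb, Functor.map_mul, Functor.map_mul, MonObj.comp_mul, Category.assoc, Category.assoc,
        ← Functor.map_comp, ← Functor.map_comp, ← Functor.map_comp, ← Functor.map_comp])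
    (fun T a => htest T _ fun U V B _ d hd hQB hBQ Y t => by
      obtain ⟨a', ha⟩ := hQB Y (t ≫ (Over.pullback V.ι).map ((Over.pullback (U.ι ≫ π)).map a))
      obtain ⟨y, hy⟩ := hBQ Y a'⁻¹
      refine ⟨y, hy.trans ?_⟩
      rw [GrpObj.inv_comp, ha, Functor.map_inv', Functor.map_inv', GrpObj.comp_inv, Category.assoc,
        ← Functor.map_comp, ← Functor.map_comp])
  haveI := hgQ
  haveI : IsMonHom (q ≫ j) := by rw [hqj]; infer_instance
  haveI hqhom : IsMonHom q := isMonHom_of_comp_mono q j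
  have hfs : Flat ((Over.pullback π).map q).left ∧ Surjective ((Over.pullback π).map q).left := by
    have hone : ∀ s : S', Flat ((Over.pullback (𝒰.f s ≫ π)).map q).left ∧
        Surjective ((Over.pullback (𝒰.f s ≫ π)).map q).left := by
      intro s
      obtain ⟨e, he⟩ := key (U s) (V s) (B s) (c s) (d s) (hc₁ s) (hc₂ s) (hc₃ s) (hd₂ s) (hcd s)
      haveI := hd₂ s
      haveI : Mono (d s) := (Over.forget _).mono_of_mono_map (inferInstanceAs (Mono (d s).left))
      have h : (Over.pullback (V s).ι).map ((Over.pullback ((U s).ι ≫ π)).map q) = c s ≫ e.inv := by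
        rw [← cancel_mono e.hom, Category.assoc, Iso.inv_hom_id, Category.comp_id, ← cancel_mono (d s),
          Category.assoc, he, ← Functor.map_comp, ← Functor.map_comp, hqj, hcd s]
      haveI := hc₁ s
      haveI := hc₂ s
      haveI : IsIso e.inv.left := inferInstanceAs (IsIso ((Over.forget _).map e.inv))
      obtain ⟨a, ha⟩ := hl s
      have hP : ∀ (P : MorphismProperty Scheme.{u}) [P.RespectsIso] [P.IsStableUnderBaseChange],
          P (c s ≫ e.inv).left → P ((Over.pullback (𝒰.f s ≫ π)).map q).left := by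
        intro P _ _ hc
        have h1 : P ((Over.pullback ((V s).ι ≫ (U s).ι ≫ π)).map q).left := by
          have hn := congrArg CommaMorphism.left ((Over.pullbackComp (V s).ι ((U s).ι ≫ π)).hom.naturality q)
          simp only [Functor.comp_map, Over.comp_left] at hn
          rw [h] at hn
          rw [← P.cancel_right_of_respectsIso _ ((Over.pullbackComp (V s).ι ((U s).ι ≫ π)).hom.app Q).left, hn,
            P.cancel_left_of_respectsIso]
          exact hc
        have h2 : 𝒰.f s ≫ π = a ≫ ((V s).ι ≫ (U s).ι ≫ π) := by rw [← ha]; simp only [Category.assoc]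
        rw [h2]
        exact MorphismProperty.of_isPullback (P := P)
          (isPullback_overMap_bcMor q ((V s).ι ≫ (U s).ι ≫ π) a).flip h1
      exact ⟨hP @Flat (inferInstanceAs (Flat ((c s).left ≫ e.inv.left))),
        hP @Surjective (inferInstanceAs (Surjective ((c s).left ≫ e.inv.left)))⟩
    exact ⟨of_baseCover @Flat q π 𝒰 fun s => (hone s).1, of_baseCover @Surjective q π 𝒰 fun s => (hone s).2⟩
  obtain ⟨hqf, hqs⟩ := flat_surjective_of_bc π q hfs.1 hfs.2
  refine ⟨Q, gQ, j, hgQ, q, hqhom, hj, hqf, hqs, hqj, fun U V B _ c d hc₁ hc₂ hc₃ hd₁ hd₂ hcd => ?_⟩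
  obtain ⟨e, he⟩ := key U V B c d hc₁ hc₂ hc₃ hd₂ hcd
  haveI := hd₁
  haveI : Mono d := (Over.forget (V : Scheme.{u})).mono_of_mono_map (haveI := hd₂; inferInstanceAs (Mono d.left))
  haveI : IsMonHom (e.hom ≫ d) := by rw [he]; infer_instance
  haveI : IsMonHom e.hom := isMonHom_of_comp_mono _ d
  exact ⟨Grp.mkIso' e⟩

end GrothLib.MonoMT14
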