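import Groth.Agent.Lib.SubTorus14.LocalImage

/-!
Homomorphisms from diagonalisable groups of any type to separated groups of finite presentation.
-/

universe u

open CategoryTheory MonoidalCategory CartesianMonoidalCategory MonObj GrpObj AlgebraicGeometry
open CategoryTheory.Limits

namespace GrothLib.MonoMT14

open GrothLib.DiagGrp GrothLib.SubTorus14

variable {S : Scheme.{u}} {L : Type} [AddCommGroup L]

theorem dsmap_fpqc {W : Scheme.{u}} {L N : Type} [AddCommGroup L] [AddCommGroup N] (φ : N →+ L)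
    (hφ : Function.Injective φ) :
    Flat (Red.DSmap W φ).left ∧ Surjective (Red.DSmap W φ).left ∧ QuasiCompact (Red.DSmap W φ).left := by
  obtain ⟨h1, h2⟩ := charCond_flat_surjective.dsmap φ hφ W
  haveI := isAffineHom_DS W L
  haveI := isAffineHom_DS W N
  haveI : IsAffineHom ((Red.DSmap W φ).left ≫ (Red.DS W N).hom) := by rw [Over.w]; infer_instance
  haveI : IsAffineHom (Red.DSmap W φ).left := IsAffineHom.of_comp _ (Red.DS W N).hom
  exact ⟨h1, h2, inferInstance⟩

/-- Descent of a morphism along an fpqc morphism, checked on affine points. -/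
theorem exists_desc {A B Q : Over S} (c : A ⟶ B) [Flat c.left] [Surjective c.left]
    [QuasiCompact c.left] (l : A ⟶ Q)
    (w : ∀ (C : Type u) [CommRing C] (p : Spec (CommRingCat.of C) ⟶ S) (a a' : Over.mk p ⟶ A),
      a ≫ c = a' ≫ c → a ≫ l = a' ≫ l) :
    ∃ d : B ⟶ Q, c ≫ d = l := by
  let d₀ : B.left ⟶ Q.left := EffectiveEpi.desc c.left l.left fun {Z} g₁ g₂ hg => by
    let T : Over S := Over.mk (g₁ ≫ A.hom)
    have h2 : g₂ ≫ A.hom = g₁ ≫ A.hom := by rw [← Over.w c, ← reassoc_of% hg]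
    let a₁ : T ⟶ A := Over.homMk g₁ rfl
    let a₂ : T ⟶ A := Over.homMk g₂ h2
    have h : a₁ ≫ l = a₂ ≫ l := QuotTorus14.ext_affine fun C _ p t => by
      rw [← Category.assoc, ← Category.assoc]
      refine w C p _ _ ?_
      rw [Category.assoc, Category.assoc, show a₁ ≫ c = a₂ ≫ c from Over.OverMorphism.ext hg]
    exact congrArg (fun t => t.left) h
  have hd : c.left ≫ d₀ = l.left := EffectiveEpi.fac _ _ _
  refine ⟨Over.homMk d₀ ?_, Over.OverMorphism.ext hd⟩
  rw [← cancel_epi c.left, reassoc_of% hd, Over.w l]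
  exact (Over.w c).symm

/-- If the kernel is `D(L/Δ)` on every fibre and contains it, it is exactly `D(L/Δ)`. -/
theorem exact_of_const {W : Scheme.{u}} {G : Over W} [GrpObj G] [IsSeparated G.hom]
    (hG : LocallyOfFinitePresentation G.hom) (u : Red.DS W L ⟶ G) [IsMonHom u] (Δ : AddSubgroup L) (hΔ : AddGroup.FG Δ)
    (h₁ : ∀ (C : Type u) [CommRing C] (p : Spec (CommRingCat.of C) ⟶ W) (χ : Multiplicative L →* C),
      (∀ l : Δ, χ (Multiplicative.ofAdd (l : L)) = 1) → dsPoint L p χ ≫ u = 1)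
    (h₂ : ∀ (w : W) (C : Type u) [CommRing C] (t : Spec (CommRingCat.of C) ⟶ Spec (W.residueField w))
      (χ : Multiplicative L →* C), dsPoint L (t ≫ W.fromSpecResidueField w) χ ≫ u = 1 →
        ∀ l : Δ, χ (Multiplicative.ofAdd (l : L)) = 1)
    (C : Type u) [CommRing C] (p : Spec (CommRingCat.of C) ⟶ W) (χ : Multiplicative L →* C)
    (hχ : dsPoint L p χ ≫ u = 1) : ∀ l : Δ, χ (Multiplicative.ofAdd (l : L)) = 1 := by
  set v := Red.DSmap W Δ.subtype
  haveI : IsMonHom v := isMonHom_DSmap W Δ.subtype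
  obtain ⟨_, _, _⟩ := dsmap_fpqc (W := W) Δ.subtype Subtype.val_injective
  have hiff : ∀ (C : Type u) [CommRing C] (p : Spec (CommRingCat.of C) ⟶ W) (χ : Multiplicative L →* C),
      dsPoint L p χ ≫ v = 1 ↔ ∀ l : Δ, χ (Multiplicative.ofAdd (l : L)) = 1 := fun C _ p χ => by
    rw [← map_one (dsPoint Δ p), dsPoint_DSmap, EmbeddingLike.apply_eq_iff_eq]
    exact ⟨fun h l => DFunLike.congr_fun h (Multiplicative.ofAdd l), fun h => MonoidHom.ext fun l => h l.toAdd⟩
  obtain ⟨d, hd⟩ := exists_desc v u fun C _ p a b hab => by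
    obtain ⟨χ, hc⟩ := (dsPoint L p).surjective (a⁻¹ * b)
    have h3 : dsPoint L p χ ≫ v = 1 := by
      rw [hc]
      exact (inv_mul_comp_eq_one v a b).mpr hab
    have h4 := h₁ C p χ ((hiff C p χ).mp h3)
    rw [hc] at h4
    exact (inv_mul_comp_eq_one u a b).mp h4
  haveI : IsMonHom (v ≫ d) := hd.symm ▸ ‹IsMonHom u›
  haveI : IsMonHom d := QuotTorus14.isMonHom_desc v d
  haveI := isClosedImmersion_one G
  haveI : LocallyOfFiniteType (Red.DS W Δ).hom := by
    haveI := locallyOfFiniteType_diag.{u} Δ hΔ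
    exact MorphismProperty.pullback_snd (P := @LocallyOfFiniteType) _ _
      ‹LocallyOfFiniteType (Red.diag (ULift.{u} ℤ) Δ).hom›
  haveI : Mono d := mono_of_fibres d fun w => (mono_pullback_iff d _).mpr fun Y τ hτ g hg =>
    eq_one_of_lift v d (W.fromSpecResidueField w) (fun C _ t a ha => by
      obtain ⟨χ, rfl⟩ := (dsPoint L _).surjective a
      rw [Category.assoc, hd] at ha
      exact (hiff C _ χ).mpr (h₂ w C t χ ha)) Y τ hτ g hg
  refine (hiff C p χ).mp ((cancel_mono d).mp ?_)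
  rw [Category.assoc, hd, hχ, MonObj.one_comp]

variable {G : Over S} [GrpObj G] [IsSeparated G.hom]

/-- Near every point the kernel of a homomorphism out of `D(L)` is some `D(L/Δ)`. -/
theorem exists_good_hom (hG : LocallyOfFinitePresentation G.hom) (u : Red.DS S L ⟶ G)
    [IsMonHom u] (s : S) : ∃ U : S.Opens, s ∈ U ∧ ∃ Δ : AddSubgroup L, Δ.FG ∧ QuotTorus14.Good u U Δ := by
  obtain ⟨V, hV, hsV, -⟩ := exists_isAffineOpen_mem_and_subset (TopologicalSpace.Opens.mem_top s)
  let f : Spec Γ(S, V) ⟶ S := hV.fromSpec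
  haveI := isClosedImmersion_one G
  haveI : LocallyOfFinitePresentation η[G].left := by
    refine lfp_of_comp_of_lft _ G.hom ?_ inferInstance
    rw [Over.w η[G]]
    exact inferInstanceAs (LocallyOfFinitePresentation (𝟙 S))
  haveI : LocallyOfFinitePresentation (pullback.fst u.left η[G].left) := inferInstance
  obtain ⟨I, hfg, hI⟩ := exists_kernel_ideal f (bcChart f L) u
  obtain ⟨Γ, hΓc, hΓ⟩ := exists_locallyConstant_kernel f (bcChart f L) u I hI hfg
  set x : PrimeSpectrum Γ(S, V) := hV.primeIdealOf ⟨s, hsV⟩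
  obtain ⟨_, ⟨g, rfl⟩, hxg, hgU⟩ := PrimeSpectrum.isTopologicalBasis_basic_opens.exists_subset_of_mem_open
    (show x ∈ Γ ⁻¹' {Γ x} from rfl) (hΓc.isOpen_fiber _)
  let Δ : AddSubgroup L := Subgroup.toAddSubgroup' (Γ x)
  have hΔfg : Δ.FG := by
    obtain ⟨gens, hgens⟩ := hfg
    classical
    let supp : Finset L := gens.biUnion fun y => y.coeff.support.image Multiplicative.toAdd
    let Δ₀ := AddSubgroup.closure (supp : Set L)
    have hle : Δ ≤ Δ₀ := by
      intro l hl
      let P := hV.primeIdealOf ⟨s, hsV⟩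
      let Lf := P.asIdeal.ResidueField
      let σ : Γ(S, V) →+* Lf := algebraMap _ _
      let C := MonoidAlgebra Lf (Multiplicative (L ⧸ Δ₀))
      let h : Lf →+* C := MonoidAlgebra.singleOneRingHom
      let χ : Multiplicative L →* C :=
        (MonoidAlgebra.of Lf _).comp (AddMonoidHom.toMultiplicative (QuotientAddGroup.mk' Δ₀))
      have hk : Kills I (h.comp σ) χ := by
        intro y hy
        have hsub : I ≤ RingHom.ker (evalAt (h.comp σ) χ) := by
          rw [← hgens, Ideal.span_le]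
          intro y hy
          show evalAt (h.comp σ) χ y = 0
          have h1 : evalAt (h.comp σ) χ y = evalAt (h.comp σ) 1 y := by
            rw [← MonoidAlgebra.sum_coeff_single y, Finsupp.sum, map_sum, map_sum]
            refine Finset.sum_congr rfl fun m hm => ?_
            have hmem : m.toAdd ∈ Δ₀ := AddSubgroup.subset_closure
              (Finset.mem_coe.mpr (Finset.mem_biUnion.mpr ⟨y, hy, Finset.mem_image.mpr ⟨m, hm, rfl⟩⟩))
            rw [evalAt_single, evalAt_single, MonoidHom.one_apply]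
            congr 1
            show MonoidAlgebra.of Lf _ (Multiplicative.ofAdd (QuotientAddGroup.mk' Δ₀ m.toAdd)) = 1
            rw [show QuotientAddGroup.mk' Δ₀ m.toAdd = 0 from (QuotientAddGroup.eq_zero_iff _).mpr hmem]
            exact map_one _
          rw [h1]
          refine (isSubgrpIdeal_kernel f (bcChart f L) u I hI).one C (h.comp σ) y ?_
          rw [← hgens]
          exact Ideal.subset_span hy
        exact hsub hy
      have h5 := (hΓ Lf σ C h χ).mp hk
      have h6 : (⟨RingHom.ker σ, RingHom.ker_isPrime σ⟩ : PrimeSpectrum Γ(S, V)) = P :=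
        PrimeSpectrum.ext (Ideal.ker_algebraMap_residueField _)
      rw [h6] at h5
      have h7 := MonoidAlgebra.of_injective ((h5 (Multiplicative.ofAdd l) hl).trans (map_one _).symm)
      exact (QuotientAddGroup.eq_zero_iff l).mp h7
    haveI : Module.Finite ℤ Δ₀ :=
      Module.Finite.iff_addGroup_fg.mpr ((AddGroup.fg_iff_addSubgroup_fg _).mpr ⟨supp, rfl⟩)
    haveI : IsNoetherian ℤ Δ₀ := isNoetherian_of_isNoetherianRing_of_finite ℤ Δ₀
    have h8 : AddGroup.FG (Δ.addSubgroupOf Δ₀) :=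
      SubTorus14.fg_subgroup (Module.Finite.iff_addGroup_fg.mp inferInstance) _
    rw [← AddGroup.fg_iff_addSubgroup_fg]
    exact (AddGroup.fg_of_surjective (hG := h8) (f := (AddSubgroup.addSubgroupOfEquivOfLe hle).toAddMonoidHom)
      (AddEquiv.surjective _) :)
  refine ⟨S.basicOpen g, ?_, Δ, hΔfg, fun C _ p hp a b => ?_⟩
  · have h2 : hV.primeIdealOf ⟨s, hsV⟩ ∈ hV.fromSpec ⁻¹ᵁ S.basicOpen g := by
      rw [hV.fromSpec_preimage_basicOpen]
      exact hxg
    have h3 : hV.fromSpec.base (hV.primeIdealOf ⟨s, hsV⟩) ∈ S.basicOpen g := h2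
    rwa [hV.fromSpec_primeIdealOf] at h3
  let U := S.basicOpen g
  -- points of `S` inside the basic open
  have hpt : ∀ (C : Type u) [CommRing C] (p : Spec (CommRingCat.of C) ⟶ S), (∀ y, p.base y ∈ U) →
      ∃ σ : Γ(S, V) →+* C, p = Spec.map (CommRingCat.ofHom σ) ≫ f ∧
        ∀ Q : PrimeSpectrum C, Γ (PrimeSpectrum.comap σ Q) = Γ x := by
    intro C _ p hp
    have hrp : Set.range p ⊆ Set.range hV.fromSpec := by
      rw [IsAffineOpen.range_fromSpec]
      rintro _ ⟨y, rfl⟩
      exact S.basicOpen_le g (hp y)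
    set p₁ := IsOpenImmersion.lift hV.fromSpec p hrp
    have hσ : Spec.map (CommRingCat.ofHom (Spec.preimage p₁).hom) = p₁ := Spec.map_preimage p₁
    refine ⟨(Spec.preimage p₁).hom, by rw [hσ]; exact (IsOpenImmersion.lift_fac _ _ _).symm, fun Q => hgU ?_⟩
    have h1 : hV.fromSpec.base (p₁.base Q) ∈ U := by
      rw [← Scheme.Hom.comp_apply, IsOpenImmersion.lift_fac]
      exact hp Q
    have h2 : p₁.base Q ∈ hV.fromSpec ⁻¹ᵁ S.basicOpen g := h1
    rw [hV.fromSpec_preimage_basicOpen, ← hσ] at h2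
    exact h2
  have h₁ : ∀ (C : Type u) [CommRing C] (p : Spec (CommRingCat.of C) ⟶ S), (∀ y, p.base y ∈ U) →
      ∀ χ : Multiplicative L →* C, (∀ l : Δ, χ (Multiplicative.ofAdd (l : L)) = 1) → dsPoint L p χ ≫ u = 1 := by
    intro C _ p hp χ hχ
    obtain ⟨σ, rfl, hσ⟩ := hpt C p hp
    rw [← ptG_bcChart]
    exact (hI C σ χ).mp
      (kills_of_const f (bcChart f L) u I hI hfg Γ hΓ (Γ x) σ hσ χ fun z hz => hχ ⟨z.toAdd, hz⟩)
  have h₂ : ∀ (C : Type u) [CommRing C] (p : Spec (CommRingCat.of C) ⟶ S), (∀ y, p.base y ∈ U) →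
      ∀ χ : Multiplicative L →* C, dsPoint L p χ ≫ u = 1 → ∀ l : Δ, χ (Multiplicative.ofAdd (l : L)) = 1 := by
    intro C _ p hp χ hχ
    have hr : Set.range p ⊆ Set.range U.ι := by
      rw [Scheme.Opens.range_ι]
      rintro _ ⟨y, rfl⟩
      exact hp y
    set t := IsOpenImmersion.lift U.ι p hr
    have ht : t ≫ U.ι = p := IsOpenImmersion.lift_fac _ _ _
    haveI := isMonHom_dsBc U.ι L
    haveI : IsMonHom ((Over.pullback U.ι).map u) := inferInstance
    haveI : IsMonHom (dsBc U.ι L ≫ (Over.pullback U.ι).map u) := inferInstance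
    haveI : IsSeparated (Red.bc U.ι G).hom :=
      MorphismProperty.pullback_snd (P := @IsSeparated) _ _ ‹IsSeparated G.hom›
    have key : ∀ (C : Type u) [CommRing C] (t : Spec (CommRingCat.of C) ⟶ (U : Scheme.{u}))
        (χ : Multiplicative L →* C),
        dsPoint L t χ ≫ dsBc U.ι L ≫ (Over.pullback U.ι).map u = 1 ↔ dsPoint L (t ≫ U.ι) χ ≫ u = 1 := by
      intro C _ t χ
      rw [← Category.assoc, dsPoint_dsBc, ← bcPoint_comp_right,
        ← map_one (bcPointMulEquiv U.ι G (Over.mk t))]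
      exact Equiv.apply_eq_iff_eq _
    refine exact_of_const (MorphismProperty.pullback_snd (P := @LocallyOfFinitePresentation) _ _ hG)
      (dsBc U.ι L ≫ (Over.pullback U.ι).map u) Δ ((AddGroup.fg_iff_addSubgroup_fg Δ).mpr hΔfg) (fun C _ t χ hχ => ?_) (fun w C _ t χ hχ => ?_) C t χ
      ((key C t χ).mpr (ht.symm ▸ hχ))
    · exact (key C t χ).mpr (h₁ C _ (fun y => (t.base y).2) χ hχ)
    · have h3 := (key C _ χ).mp hχ
      obtain ⟨σ, hσ, hσQ⟩ := hpt ((U : Scheme.{u}).residueField w) ((U : Scheme.{u}).fromSpecResidueField w ≫ U.ι)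
        (fun y => (((U : Scheme.{u}).fromSpecResidueField w).base y).2)
      set h : ((U : Scheme.{u}).residueField w) →+* C := (Spec.preimage t).hom
      have e : (t ≫ (U : Scheme.{u}).fromSpecResidueField w) ≫ U.ι = Spec.map (CommRingCat.ofHom (h.comp σ)) ≫ f := by
        rw [CommRingCat.ofHom_comp, Spec.map_comp]
        refine ((Category.assoc _ _ _).trans (congrArg (t ≫ ·) hσ)).trans ?_
        refine (Category.assoc _ _ _).symm.trans (congrArg (· ≫ f) ?_)
        congr 1
        exact (Spec.map_preimage t).symm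
      rw [e, ← ptG_bcChart] at h3
      intro l
      have h4 := (hΓ _ σ C h χ).mp ((hI C (h.comp σ) χ).mpr h3)
      have h5 : Γ ⟨RingHom.ker σ, RingHom.ker_isPrime σ⟩ = Γ x := by
        rw [← hσQ ⟨⊥, Ideal.isPrime_bot (α := ((U : Scheme.{u}).residueField w))⟩]
        congr 1
      exact h4 (Multiplicative.ofAdd (l : L)) (h5.symm ▸ l.2)
  obtain ⟨χ, hc⟩ := (dsPoint L p).surjective (a⁻¹ * b)
  haveI : IsMonHom (Red.DSmap S Δ.subtype) := isMonHom_DSmap S Δ.subtype
  have hu : a ≫ u = b ≫ u ↔ dsPoint L p χ ≫ u = 1 := by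
    rw [hc]
    exact (inv_mul_comp_eq_one u a b).symm
  have hv : a ≫ Red.DSmap S Δ.subtype = b ≫ Red.DSmap S Δ.subtype ↔
      dsPoint L p χ ≫ Red.DSmap S Δ.subtype = dsPoint L p 1 ≫ Red.DSmap S Δ.subtype := by
    rw [hc, map_one, show (1 : Over.mk p ⟶ Red.DS S L) ≫ Red.DSmap S Δ.subtype = 1 from MonObj.one_comp _]
    exact (inv_mul_comp_eq_one (Red.DSmap S Δ.subtype) a b).symm
  rw [hu, hv, QuotTorus14.comp_subtype_eq_iff]
  exact ⟨fun h l => by simpa using h₂ C p hp χ h l, fun h => h₁ C p hp χ fun l => by simpa using h l⟩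

end GrothLib.MonoMT14
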