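import Groth.Agent.Lib.MonoMT14.ImageFpqc

/-!
The image of a homomorphism from a group of multiplicative type into a separated group of finite presentation.
-/

universe u

open CategoryTheory MonoidalCategory CartesianMonoidalCategory MonObj GrpObj AlgebraicGeometry
open CategoryTheory.Limits

namespace GrothLib.MonoMT14

open GrothLib.DiagGrp GrothLib.SubTorus14

variable {S S' : Scheme.{u}} (π : S' ⟶ S)

/-- A chart on an open of an open gives one on the image open. -/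
theorem exists_chart_nested (Q : Over S) [GrpObj Q] (U : S'.Opens) (V : (U : Scheme.{u}).Opens) {Λ : Type}
    [AddCommGroup Λ]
    (e : Grp.mk (Red.bc V.ι (Red.bc (U.ι ≫ π) Q)) ≅ Grp.mk (Red.bc V.ι (Red.DS (U : Scheme.{u}) Λ))) :
    Nonempty (Grp.mk (Red.bc ((U.ι ''ᵁ V).ι ≫ π) Q) ≅ Grp.mk (Red.DS ((U.ι ''ᵁ V : S'.Opens) : Scheme.{u}) Λ)) := by
  let w : ((U.ι ''ᵁ V : S'.Opens) : Scheme.{u}) ⟶ (V : Scheme.{u}) :=
    IsOpenImmersion.lift (V.ι ≫ U.ι) (U.ι ''ᵁ V).ι (by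
      rw [Scheme.Opens.range_ι]
      rintro x ⟨y, hy, rfl⟩
      exact ⟨⟨y, hy⟩, rfl⟩)
  have hw : w ≫ V.ι ≫ U.ι = (U.ι ''ᵁ V).ι := IsOpenImmersion.lift_fac _ _ _
  exact ⟨bcGrpComp Q (V.ι ≫ U.ι ≫ π) w ((U.ι ''ᵁ V).ι ≫ π) (by rw [← hw]; simp only [Category.assoc]) ≪≫
    (Over.pullback w).mapGrp.mapIso (bcGrpComp Q (U.ι ≫ π) V.ι (V.ι ≫ U.ι ≫ π) rfl ≪≫ e) ≪≫
    (bcGrpComp (Red.DS (U : Scheme.{u}) Λ) V.ι w (w ≫ V.ι) rfl).symm ≪≫ bcChart (w ≫ V.ι) Λ⟩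

variable [Flat π] [Surjective π] {H G : Over S} [GrpObj H] [GrpObj G] [IsSeparated G.hom] [QuasiCompact G.hom]

/-- The image of a homomorphism out of a group with diagonalisable charts, with charts for the image. -/
theorem exists_image_of_charts (hG : LocallyOfFinitePresentation G.hom) (f : H ⟶ G) [IsMonHom f]
    [QuasiCompact f.left]
    (P : ∀ (M : Type), AddCommGroup M → Prop)
    (hH : ∀ s' : S', ∃ U : S'.Opens, s' ∈ U ∧ ∃ (M : Type) (i : AddCommGroup M), P M i ∧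
      Nonempty (Grp.mk (Red.bc (U.ι ≫ π) H) ≅ Grp.mk (Red.DS (U : Scheme.{u}) M))) :
    ∃ (Q : Over S) (_ : GrpObj Q) (j : Q ⟶ G) (_ : IsMonHom j) (f' : H ⟶ Q) (_ : IsMonHom f'),
      IsClosedImmersion j.left ∧ Flat f'.left ∧ Surjective f'.left ∧ f' ≫ j = f ∧
      ∀ s' : S', ∃ (M : Type) (i : AddCommGroup M) (W : S'.Opens), s' ∈ W ∧ P M i ∧
        ∃ Λ : AddSubgroup M, Λ.FG ∧
          Nonempty (Grp.mk (Red.bc (W.ι ≫ π) Q) ≅ Grp.mk (Red.DS (W : Scheme.{u}) Λ)) := by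
  have hdata : ∀ s' : S', ∃ (U : S'.Opens) (M : Type) (i : AddCommGroup M) (V : (U : Scheme.{u}).Opens),
      s' ∈ Set.range (V.ι ≫ U.ι) ∧
      P M i ∧
      ∃ Λ : AddSubgroup M, Λ.FG ∧
      ∃ (c : Red.bc V.ι (Red.bc (U.ι ≫ π) H) ⟶ Red.bc V.ι (Red.DS (U : Scheme.{u}) Λ))
        (d : Red.bc V.ι (Red.DS (U : Scheme.{u}) Λ) ⟶ Red.bc V.ι (Red.bc (U.ι ≫ π) G)),
        Flat c.left ∧ Surjective c.left ∧ QuasiCompact c.left ∧ IsMonHom d ∧ IsClosedImmersion d.left ∧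
          c ≫ d = (Over.pullback V.ι).map ((Over.pullback (U.ι ≫ π)).map f) := by
    intro s'
    obtain ⟨U, hsU, M, instM, hPM, ⟨e⟩⟩ := hH s'
    haveI : IsSeparated (Red.bc (U.ι ≫ π) G).hom :=
      MorphismProperty.pullback_snd (P := @IsSeparated) _ _ ‹IsSeparated G.hom›
    haveI : QuasiCompact (Red.bc (U.ι ≫ π) G).hom :=
      MorphismProperty.pullback_snd (P := @QuasiCompact) _ _ ‹QuasiCompact G.hom›
    have hG' : LocallyOfFinitePresentation (Red.bc (U.ι ≫ π) G).hom :=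
      MorphismProperty.pullback_snd (P := @LocallyOfFinitePresentation) _ _ hG
    let g := e.inv.hom.hom ≫ (Over.pullback (U.ι ≫ π)).map f
    obtain ⟨V, hsV, -, Λ, hΛ, j, hj, hjc, hfac⟩ := exists_clopen_image hG' g ⟨s', hsU⟩
    obtain ⟨hfl, hsu, hqc⟩ := dsmap_fpqc (W := (U : Scheme.{u})) Λ.subtype Subtype.val_injective
    let c := (Over.pullback V.ι).map (e.hom.hom.hom ≫ Red.DSmap (U : Scheme.{u}) Λ.subtype)
    haveI : IsIso e.hom.hom.hom := inferInstanceAs (IsIso ((Grp.forget _).map e.hom))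
    haveI : IsIso e.hom.hom.hom.left := inferInstanceAs (IsIso ((Over.forget _).map e.hom.hom.hom))
    haveI := hfl
    haveI := hsu
    haveI := hqc
    have hh : Flat (e.hom.hom.hom ≫ Red.DSmap (U : Scheme.{u}) Λ.subtype).left ∧
        Surjective (e.hom.hom.hom ≫ Red.DSmap (U : Scheme.{u}) Λ.subtype).left ∧
        QuasiCompact (e.hom.hom.hom ≫ Red.DSmap (U : Scheme.{u}) Λ.subtype).left := by
      rw [Over.comp_left]
      exact ⟨inferInstance, inferInstance, inferInstance⟩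
    refine ⟨U, M, instM, V, ⟨⟨⟨s', hsU⟩, hsV⟩, rfl⟩, hPM, Λ, hΛ, c, j,
      MorphismProperty.baseChange_map (P := @Flat) V.ι _ hh.1,
      MorphismProperty.baseChange_map (P := @Surjective) V.ι _ hh.2.1,
      MorphismProperty.baseChange_map (P := @QuasiCompact) V.ι _ hh.2.2, hj, hjc, ?_⟩
    simp only [c, Functor.map_comp, Category.assoc]
    rw [← hfac, ← Functor.map_comp]
    congr 1
    change e.hom.hom.hom ≫ e.inv.hom.hom ≫ (Over.pullback (U.ι ≫ π)).map f = _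
    rw [← Category.assoc, show e.hom.hom.hom ≫ e.inv.hom.hom = 𝟙 _ from
      congrArg (fun z => z.hom.hom) e.hom_inv_id, Category.id_comp]
  choose U M instM V hsV he Λ hΛ c d hc₁ hc₂ hc₃ hd₁ hd₂ hcd using hdata
  haveI hB : ∀ s', IsMonHom (d s') := hd₁
  obtain ⟨Q, gQ, j, hj, f', hf', hjc, hfl, hfs, hfac, hiso⟩ := exists_image_fpqc π f fun s' =>
    ⟨U s', V s', _, inferInstance, c s', d s', hsV s', hc₁ s', hc₂ s', hc₃ s', hd₁ s', hd₂ s', hcd s'⟩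
  refine ⟨Q, gQ, j, hj, f', hf', hjc, hfl, hfs, hfac, fun s' => ?_⟩
  obtain ⟨eQ⟩ := hiso (U s') (V s') _ (c s') (d s') (hc₁ s') (hc₂ s') (hc₃ s') (hd₁ s') (hd₂ s') (hcd s')
  refine ⟨M s', instM s', (U s').ι ''ᵁ V s', ?_, he s', Λ s', hΛ s', exists_chart_nested π Q _ _ eQ⟩
  obtain ⟨v, hv⟩ := hsV s'
  exact ⟨(V s').ι.base v, v.2, hv⟩

/-- Two factorisations through closed subgroups by fpqc homomorphisms agree. -/
theorem exists_iso_of_two {Q₁ Q₂ : Over S} [GrpObj Q₁] [GrpObj Q₂] (j₁ : Q₁ ⟶ G) (j₂ : Q₂ ⟶ G)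
    [IsClosedImmersion j₁.left] [IsClosedImmersion j₂.left] (f₁ : H ⟶ Q₁) (f₂ : H ⟶ Q₂)
    [Flat f₁.left] [Surjective f₁.left] [QuasiCompact f₁.left]
    [Flat f₂.left] [Surjective f₂.left] [QuasiCompact f₂.left] (f : H ⟶ G)
    (h₁ : f₁ ≫ j₁ = f) (h₂ : f₂ ≫ j₂ = f) :
    ∃ e : Q₁ ≅ Q₂, e.hom ≫ j₂ = j₁ ∧ f₁ ≫ e.hom = f₂ := by
  haveI := dominant_of_fpqc f₁.left
  haveI := dominant_of_fpqc f₂.left
  have hk : j₁.left.ker = j₂.left.ker := by
    have e1 : j₁.left.ker = f.left.ker := by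
      rw [← h₁, Over.comp_left, Scheme.Hom.ker_comp, f₁.left.ker_eq_bot, Scheme.IdealSheafData.map_bot]
    have e2 : j₂.left.ker = f.left.ker := by
      rw [← h₂, Over.comp_left, Scheme.Hom.ker_comp, f₂.left.ker_eq_bot, Scheme.IdealSheafData.map_bot]
    rw [e1, e2]
  let e₀ := IsClosedImmersion.lift j₂.left j₁.left hk.ge
  have he₀ : e₀ ≫ j₂.left = j₁.left := IsClosedImmersion.lift_fac _ _ _
  haveI : IsIso e₀ := IsClosedImmersion.isIso_of_ker_eq _ _ e₀ he₀ hk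
  haveI : Mono j₂ := (Over.forget S).mono_of_mono_map (inferInstanceAs (Mono j₂.left))
  let e : Q₁ ≅ Q₂ := Over.isoMk (asIso e₀) (by
    change e₀ ≫ Q₂.hom = Q₁.hom
    rw [← Over.w j₂, ← Category.assoc, he₀, Over.w j₁])
  have he : e.hom ≫ j₂ = j₁ := Over.OverMorphism.ext he₀
  exact ⟨e, he, by rw [← cancel_mono j₂, Category.assoc, he, h₁, h₂]⟩

end GrothLib.MonoMT14
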