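import Mathlib

/-!
Tropical lemma: translating a rational function on a split torus over a valued field by the powers of a
point with independent valuations gives, for all but finitely many powers, a constant reduction.
-/

universe u

namespace GrothLib.MonoMT14

open MonoidAlgebra

variable {R : Type u} [CommRing R] [IsDomain R] [ValuationRing R]
variable {K : Type u} [Field K] [Algebra R K] [IsFractionRing R K]
variable {M : Type} [CommGroup M]

local notation "v" => ValuationRing.valuation R K

/-- Translation by the `j`-th power of the point `π`. -/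
noncomputable def translate (π : M →* Kˣ) (j : ℤ) : MonoidAlgebra K M →+* MonoidAlgebra K M :=
  liftNCRingHom (singleOneRingHom) 
    { toFun := fun e => single e ((π e : K) ^ j)
      map_one' := by simp [MonoidAlgebra.one_def]
      map_mul' := fun a b => by rw [single_mul_single, map_mul, Units.val_mul, mul_zpow] }
    (fun _ _ => Commute.all _ _)

theorem translate_single (π : M →* Kˣ) (j : ℤ) (e : M) (a : K) :
    translate π j (single e a) = single e (a * (π e : K) ^ j) := by
  refine (liftNC_single _ _ _ _).trans ?_
  show single 1 a * single e ((π e : K) ^ j) = _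
  rw [single_mul_single, one_mul]

theorem coeff_translate (π : M →* Kˣ) (j : ℤ) (P : MonoidAlgebra K M) (e : M) :
    (translate π j P).coeff e = P.coeff e * (π e : K) ^ j := by
  classical
  induction P using induction_linear with
  | zero => simp
  | add f g hf hg => simp [map_add, hf, hg, add_mul]
  | single a b =>
    rw [translate_single, coeff_single, coeff_single, Finsupp.single_apply, Finsupp.single_apply]
    split_ifs with h
    · rw [h]
    · simp

theorem v_zpow_eq_one {x : K} {n : ℤ} (hn : n ≠ 0) (h : v x ^ n = 1) : v x = 1 := by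
  rcases lt_trichotomy (v x) 1 with h' | h' | h'
  · exfalso
    rcases Int.eq_nat_or_neg n with ⟨m, rfl | rfl⟩ <;>
      simp only [zpow_neg, zpow_natCast, inv_eq_one] at h <;>
      exact (pow_lt_one₀ zero_le h' (by omega)).ne h
  · exact h'
  · exfalso
    rcases Int.eq_nat_or_neg n with ⟨m, rfl | rfl⟩ <;>
      simp only [zpow_neg, zpow_natCast, inv_eq_one] at h <;>
      exact (one_lt_pow₀ h' (by omega)).ne' h

/-- Two monomials with distinct slopes have equal size for at most one translation. -/
theorem subsingleton_tie (π : M →* Kˣ) (hπ : ∀ e, v (π e : K) = 1 → e = 1) {e e' : M} (he : e ≠ e')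
    {a b : K} (ha : a ≠ 0) :
    {j : ℤ | v (a * (π e : K) ^ j) = v (b * (π e' : K) ^ j)}.Subsingleton := by
  intro i hi j hj
  by_contra hij
  simp only [Set.mem_setOf_eq, map_mul, map_zpow₀] at hi hj
  have hne : ∀ f : M, v (π f : K) ≠ 0 := fun f => (Valuation.ne_zero_iff _).mpr (π f).ne_zero
  have ha' : v a ≠ 0 := (Valuation.ne_zero_iff _).mpr ha
  have hr : (v (π e : K) / v (π e' : K)) ^ (i - j) = 1 := by
    have key : ∀ k : ℤ, v a * v (π e : K) ^ k = v b * v (π e' : K) ^ k →
        (v (π e : K) / v (π e' : K)) ^ k = v b / v a := fun k hk => by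
      rw [div_zpow, div_eq_div_iff (zpow_ne_zero _ (hne e')) ha', mul_comm, hk, mul_comm]
    rw [zpow_sub₀ (div_ne_zero (hne e) (hne e')), key i hi, key j hj, div_self]
    intro h0
    exact zpow_ne_zero j (div_ne_zero (hne e) (hne e')) ((key j hj).trans h0)
  rw [← map_div₀] at hr
  have h1 := v_zpow_eq_one (sub_ne_zero.mpr hij) hr
  rw [← Units.val_div_eq_div_val, ← map_div] at h1
  exact he (div_eq_one.mp (hπ _ h1))

variable (R) in
/-- No two monomials tie at the `j`-th translate. -/
def NoTie (π : M →* Kˣ) (P : MonoidAlgebra K M) (j : ℤ) : Prop :=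
  ∀ e ∈ P.coeff.support, ∀ e' ∈ P.coeff.support, e ≠ e' →
    v (P.coeff e * (π e : K) ^ j) ≠ v (P.coeff e' * (π e' : K) ^ j)

theorem finite_tie (π : M →* Kˣ) (hπ : ∀ e, v (π e : K) = 1 → e = 1) (P : MonoidAlgebra K M) :
    {j : ℤ | ¬ NoTie R π P j}.Finite := by
  classical
  refine Set.Finite.subset (s := ⋃ p ∈ (P.coeff.support ×ˢ P.coeff.support).filter (fun p => p.1 ≠ p.2),
    {j : ℤ | v (P.coeff p.1 * (π p.1 : K) ^ j) = v (P.coeff p.2 * (π p.2 : K) ^ j)}) ?_ ?_
  · refine Set.Finite.biUnion (Finset.finite_toSet _) fun p hp => ?_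
    rw [Finset.mem_coe, Finset.mem_filter, Finset.mem_product] at hp
    exact (subsingleton_tie π hπ hp.2 (Finsupp.mem_support_iff.mp hp.1.1)).finite
  · intro j hj
    simp only [NoTie, Set.mem_setOf_eq, not_forall, not_not] at hj
    obtain ⟨e, he, e', he', hne, h⟩ := hj
    exact Set.mem_iUnion₂.mpr ⟨(e, e'), Finset.mem_filter.mpr ⟨Finset.mem_product.mpr ⟨he, he'⟩, hne⟩, h⟩

/-- An untied translate is a scalar times an integral element with monomial reduction. -/
theorem exists_normalize (π : M →* Kˣ) (P : MonoidAlgebra K M) (hP : P ≠ 0) (j : ℤ) (hj : NoTie R π P j) :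
    ∃ (e : M) (P' : MonoidAlgebra R M), e ∈ P.coeff.support ∧
      translate π j P = single 1 (P.coeff e * (π e : K) ^ j) * mapRingHom M (algebraMap R K) P' ∧
      mapRingHom M (IsLocalRing.residue R) P' = single e 1 := by
  classical
  have hs : P.coeff.support.Nonempty := Finsupp.support_nonempty_iff.mpr fun h => hP (by ext m; simp [h])
  obtain ⟨e, he, hmax⟩ := P.coeff.support.exists_max_image (fun e => v (P.coeff e * (π e : K) ^ j)) hs
  have hlt : ∀ f ∈ P.coeff.support, f ≠ e →
      v (P.coeff f * (π f : K) ^ j) < v (P.coeff e * (π e : K) ^ j) :=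
    fun f hf hfe => lt_of_le_of_ne (hmax f hf) (hj f hf e he hfe)
  set α := P.coeff e * (π e : K) ^ j
  have hα : α ≠ 0 := mul_ne_zero (Finsupp.mem_support_iff.mp he) (zpow_ne_zero _ (π e).ne_zero)
  have hex : ∀ f, ∃ r : R, algebraMap R K r = P.coeff f * (π f : K) ^ j / α := by
    intro f
    rw [← ValuationRing.mem_integer_iff, Valuation.mem_integer_iff, map_div₀]
    by_cases hf : f ∈ P.coeff.support
    · exact (div_le_one₀ (zero_lt_iff.mpr ((Valuation.ne_zero_iff _).mpr hα))).mpr (hmax f hf)
    · rw [Finsupp.notMem_support_iff.mp hf, zero_mul, map_zero, zero_div]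
      exact zero_le_one
  choose r hr using hex
  refine ⟨e, ∑ f ∈ P.coeff.support, single f (r f), he, ?_, ?_⟩
  · conv_lhs => rw [← sum_coeff_single P]
    rw [Finsupp.sum, map_sum, map_sum, Finset.mul_sum]
    refine Finset.sum_congr rfl fun f _ => ?_
    rw [translate_single, mapRingHom_single, single_mul_single, one_mul, hr, mul_div_cancel₀ _ hα]
  · rw [map_sum, Finset.sum_eq_single e]
    · rw [mapRingHom_single]
      congr 1
      rw [← map_one (IsLocalRing.residue R)]
      congr 1
      apply IsFractionRing.injective R K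
      rw [map_one, hr, div_self hα]
    · intro f hf hfe
      rw [mapRingHom_single]
      have : IsLocalRing.residue R (r f) = 0 := by
        rw [IsLocalRing.residue_eq_zero_iff, IsLocalRing.mem_maximalIdeal]
        intro hu
        obtain ⟨w, hw⟩ := hu.exists_right_inv
        have h1 : v (algebraMap R K (r f)) < 1 := by
          rw [hr, map_div₀]
          exact (div_lt_one₀ (zero_lt_iff.mpr ((Valuation.ne_zero_iff _).mpr hα))).mpr (hlt f hf hfe)
        have h2 : v (algebraMap R K (r f)) * v (algebraMap R K w) = 1 := by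
          rw [← map_mul, ← map_mul (algebraMap R K), hw, map_one, map_one]
        have h3 : v (algebraMap R K w) ≤ 1 :=
          (Valuation.mem_integer_iff _ _).mp ((ValuationRing.mem_integer_iff R K _).mpr ⟨w, rfl⟩)
        exact absurd h2 (ne_of_lt (mul_lt_one_of_lt_of_le h1 h3))
      rw [this, single_zero]
    · exact fun h => absurd he h

variable [UniqueProds M]

/-- All but finitely many translates of `P / Q` which are integral at the special fibre reduce to constants. -/
theorem finite_nonconstant (π : M →* Kˣ) (hπ : ∀ e, v (π e : K) = 1 → e = 1) (P Q : MonoidAlgebra K M)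
    (hQ : Q ≠ 0) :
    {j : ℤ | ∃ A B : MonoidAlgebra R M, mapRingHom M (IsLocalRing.residue R) B ≠ 0 ∧
      translate π j P * mapRingHom M (algebraMap R K) B =
        translate π j Q * mapRingHom M (algebraMap R K) A ∧
      ∀ c, mapRingHom M (IsLocalRing.residue R) A ≠
        single 1 c * mapRingHom M (IsLocalRing.residue R) B}.Finite := by
  classical
  refine Set.Finite.subset (s := {j | ¬ NoTie R π P j} ∪ {j | ¬ NoTie R π Q j} ∪
    ⋃ p ∈ (P.coeff.support ×ˢ Q.coeff.support).filter (fun p => p.1 ≠ p.2),
      {j : ℤ | v (P.coeff p.1 * (π p.1 : K) ^ j) = v (Q.coeff p.2 * (π p.2 : K) ^ j)}) ?_ ?_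
  · refine ((finite_tie π hπ P).union (finite_tie π hπ Q)).union
      (Set.Finite.biUnion (Finset.finite_toSet _) fun p hp => ?_)
    rw [Finset.mem_coe, Finset.mem_filter, Finset.mem_product] at hp
    exact (subsingleton_tie π hπ hp.2 (Finsupp.mem_support_iff.mp hp.1.1)).finite
  rintro j ⟨A, B, hB, hrel, hc⟩
  by_contra hj
  simp only [Set.mem_union, not_or, Set.mem_setOf_eq, not_not] at hj
  obtain ⟨⟨hjP, hjQ⟩, hpair⟩ := hj
  set ι : MonoidAlgebra R M →+* MonoidAlgebra K M := mapRingHom M (algebraMap R K)
  set red := mapRingHom M (IsLocalRing.residue R)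
  have hιinj : Function.Injective ι := fun a b h => by
    ext m
    exact IsFractionRing.injective R K (by
      simpa [ι, coeff_mapRingHom] using congrArg (fun z => z.coeff m) h)
  obtain ⟨eQ, Q', heQ, hQ', hQr⟩ := exists_normalize π Q hQ j hjQ
  set β := Q.coeff eQ * (π eQ : K) ^ j
  have hβ : β ≠ 0 := mul_ne_zero (Finsupp.mem_support_iff.mp heQ) (zpow_ne_zero _ (π eQ).ne_zero)
  by_cases hP : P = 0
  · subst hP
    rw [map_zero, zero_mul, hQ', mul_assoc, ← map_mul] at hrel
    have h0 : ι (Q' * A) = 0 := by
      rcases mul_eq_zero.mp hrel.symm with h | h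
      · exact absurd h (by simp [hβ])
      · exact h
    have h1 := congrArg red (hιinj (h0.trans (map_zero ι).symm))
    rw [map_mul, map_zero, hQr] at h1
    rcases mul_eq_zero.mp h1 with h | h
    · simp at h
    · exact hc 0 (by simp [h])
  obtain ⟨eP, P', heP, hP', hPr⟩ := exists_normalize π P hP j hjP
  set α := P.coeff eP * (π eP : K) ^ j
  rw [hP', hQ', mul_assoc, mul_assoc, ← map_mul, ← map_mul] at hrel
  -- the ratio of the two scalars
  have hscale : ∀ (x : R) (y z : MonoidAlgebra R M) (a b : K), algebraMap R K x * b = a →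
      single 1 a * ι y = single 1 b * ι z → b ≠ 0 → single 1 x * y = z := by
    intro x y z a b hx h hb
    apply hιinj
    rw [map_mul, show ι (single 1 x) = single 1 (algebraMap R K x) from mapRingHom_single _ _ _]
    apply mul_left_cancel₀ (show (single 1 b : MonoidAlgebra K M) ≠ 0 by simp [hb])
    rw [← mul_assoc, single_mul_single, one_mul, mul_comm b, hx, h]
  have hα : α ≠ 0 := mul_ne_zero (Finsupp.mem_support_iff.mp heP) (zpow_ne_zero _ (π eP).ne_zero)
  rcases ValuationRing.isInteger_or_isInteger R (α / β) with ⟨x, hx⟩ | ⟨x, hx⟩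
  · have hrelR := hscale x (P' * B) (Q' * A) α β (by rw [hx, div_mul_cancel₀ _ hβ]) hrel hβ
    have h1 := congrArg red hrelR
    rw [map_mul, map_mul, map_mul, show red (single 1 x) = single 1 (IsLocalRing.residue R x) from
      mapRingHom_single _ _ _, hPr, hQr] at h1
    by_cases hu : IsLocalRing.residue R x = 0
    · rw [hu, single_zero, zero_mul] at h1
      rcases mul_eq_zero.mp h1.symm with h | h
      · simp at h
      · exact hc 0 (by simp [h])
    · have hxu : IsUnit x := by
        by_contra h
        exact hu ((IsLocalRing.residue_eq_zero_iff x).mpr h)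
      obtain ⟨w, hw⟩ := hxu.exists_right_inv
      have hle : ∀ r : R, v (algebraMap R K r) ≤ 1 := fun r =>
        (Valuation.mem_integer_iff _ _).mp ((ValuationRing.mem_integer_iff R K _).mpr ⟨r, rfl⟩)
      have hv : v (algebraMap R K x) = 1 := by
        refine le_antisymm (hle x) ?_
        have h2 : v (algebraMap R K x) * v (algebraMap R K w) = 1 := by
          rw [← map_mul, ← map_mul (algebraMap R K), hw, map_one, map_one]
        exact h2.symm.le.trans (mul_le_of_le_one_right zero_le (hle w))
      have he : eP = eQ := by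
        by_contra hne
        refine hpair (Set.mem_iUnion₂.mpr ⟨(eP, eQ),
          Finset.mem_filter.mpr ⟨Finset.mem_product.mpr ⟨heP, heQ⟩, hne⟩, ?_⟩)
        show v α = v β
        rw [hx, map_div₀, div_eq_one_iff_eq ((Valuation.ne_zero_iff _).mpr hβ)] at hv
        exact hv
      subst he
      refine hc (IsLocalRing.residue R x) (mul_left_cancel₀
        (show (single eP 1 : MonoidAlgebra (IsLocalRing.ResidueField R) M) ≠ 0 by simp) ?_)
      rw [← h1]
      ring
  · have hrelR := hscale x (Q' * A) (P' * B) β α (by rw [hx, inv_div, div_mul_cancel₀ _ hα]) hrel.symm hα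
    by_cases hu : IsUnit x
    · obtain ⟨w, hw⟩ := hu.exists_right_inv
      have h1 := congrArg (fun z => red (single 1 w * z)) hrelR
      simp only [← mul_assoc, single_mul_single, one_mul, mul_comm w x, hw] at h1
      simp only [← MonoidAlgebra.one_def, one_mul, map_mul,
        show red (single 1 w) = single 1 (IsLocalRing.residue R w) from mapRingHom_single _ _ _, hPr, hQr] at h1
      have he : eP = eQ := by
        by_contra hne
        refine hpair (Set.mem_iUnion₂.mpr ⟨(eP, eQ),
          Finset.mem_filter.mpr ⟨Finset.mem_product.mpr ⟨heP, heQ⟩, hne⟩, ?_⟩)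
        show v α = v β
        have hle : ∀ r : R, v (algebraMap R K r) ≤ 1 := fun r =>
          (Valuation.mem_integer_iff _ _).mp ((ValuationRing.mem_integer_iff R K _).mpr ⟨r, rfl⟩)
        have hv : v (algebraMap R K x) = 1 := by
          refine le_antisymm (hle x) ?_
          have h2 : v (algebraMap R K x) * v (algebraMap R K w) = 1 := by
            rw [← map_mul, ← map_mul (algebraMap R K), hw, map_one, map_one]
          exact h2.symm.le.trans (mul_le_of_le_one_right zero_le (hle w))
        rw [hx, inv_div, map_div₀, div_eq_one_iff_eq ((Valuation.ne_zero_iff _).mpr hα)] at hv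
        exact hv.symm
      subst he
      refine hc (IsLocalRing.residue R w) (mul_left_cancel₀
        (show (single eP 1 : MonoidAlgebra (IsLocalRing.ResidueField R) M) ≠ 0 by simp) ?_)
      rw [hQr, hPr] at h1
      refine h1.trans ?_
      ring
    · have h1 := congrArg red hrelR
      rw [map_mul, map_mul, map_mul, show red (single 1 x) = single 1 (IsLocalRing.residue R x) from
        mapRingHom_single _ _ _, (IsLocalRing.residue_eq_zero_iff x).mpr hu, single_zero, zero_mul,
        hPr] at h1
      rcases mul_eq_zero.mp h1.symm with h | h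
      · simp at h
      · exact hB h

end GrothLib.MonoMT14
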