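import Groth.Agent.Lib.MonoMT14.Point
import Groth.Agent.Lib.DiagGrp.MultTypeFT
import Groth.Agent.Lib.DiagGrp.FlatSubgroupScheme

/-!
A monomorphism from a diagonalisable group of finite type to a separated quasi-compact group
of finite type is a closed immersion.
-/

universe u

namespace GrothLib.MonoMT14

open CategoryTheory MonoidalCategory CartesianMonoidalCategory MonObj GrpObj AlgebraicGeometry
open CategoryTheory.Limits GrothLib.DiagGrp

variable {K : Type u} [Field K] {R : Type u} [CommRing R] [IsDomain R] [ValuationRing R] [Algebra R K]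
  [IsFractionRing R K]

/-- A character into `K^×` splits as an integral one times one with independent valuations. -/
theorem exists_split (M : Type) [AddCommGroup M] (hM : AddGroup.FG M) (h : Multiplicative M →* Kˣ) :
    ∃ (r : ℕ) (φ : M →+ (Fin r → ℤ)) (π : Multiplicative (Fin r → ℤ) →* Kˣ),
      Function.Surjective φ ∧ (∀ e, ValuationRing.valuation R K (π e : K) = 1 → e = 1) ∧
      ∀ m : Multiplicative M, ValuationRing.valuation R K
        ((h m / π (AddMonoidHom.toMultiplicative φ m) : Kˣ) : K) = 1 := by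
  classical
  set vh : Multiplicative M →* (ValuationRing.ValueGroup R K)ˣ :=
    (Units.map (ValuationRing.valuation R K).toMonoidWithZeroHom.toMonoidHom).comp h
  let Z : AddSubgroup M := Subgroup.toAddSubgroup' vh.ker
  let Q := M ⧸ Z
  haveI : AddGroup.FG M := hM
  haveI : Module.Finite ℤ Q := by
    haveI : Module.Finite ℤ M := Module.Finite.iff_addGroup_fg.mpr hM
    exact Module.Finite.iff_addGroup_fg.mpr (QuotientAddGroup.fg Z)
  haveI : IsAddTorsionFree Q := by
    refine (isAddTorsionFree_iff_not_isOfFinAddOrder).mpr ?_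
    intro a ha hfin
    obtain ⟨m, rfl⟩ := QuotientAddGroup.mk'_surjective Z a
    obtain ⟨n, hn, hn0⟩ := isOfFinAddOrder_iff_nsmul_eq_zero.mp hfin
    refine ha ((QuotientAddGroup.eq_zero_iff m).mpr ?_)
    have h1 : vh (Multiplicative.ofAdd m) ^ n = 1 := by
      rw [← map_pow]
      exact (QuotientAddGroup.eq_zero_iff (n • m)).mp hn0
    show vh (Multiplicative.ofAdd m) = 1
    refine Units.ext ?_
    have h2 : ValuationRing.valuation R K (h (Multiplicative.ofAdd m) : K) ^ (n : ℤ) = 1 := by
      rw [zpow_natCast]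
      exact congrArg Units.val h1
    exact v_zpow_eq_one (Int.natCast_ne_zero.mpr hn.ne') h2
  haveI : Module.IsTorsionFree ℤ Q := inferInstance
  let b := Module.finBasis ℤ Q
  let eb : Q ≃+ (Fin (Module.finrank ℤ Q) → ℤ) := b.equivFun.toAddEquiv
  let φ : M →+ (Fin (Module.finrank ℤ Q) → ℤ) := eb.toAddMonoidHom.comp (QuotientAddGroup.mk' Z)
  have hφ : Function.Surjective φ := eb.surjective.comp (QuotientAddGroup.mk'_surjective Z)
  choose m hm using fun i => hφ (Pi.single i (1 : ℤ))
  let s : (Fin (Module.finrank ℤ Q) → ℤ) →+ M :=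
    ∑ i, (zmultiplesHom M (m i)).comp (Pi.evalAddMonoidHom (fun _ => ℤ) i)
  have hs : ∀ e, φ (s e) = e := by
    intro e
    simp only [s, AddMonoidHom.finsetSum_apply, map_sum, AddMonoidHom.comp_apply, Pi.evalAddMonoidHom_apply,
      zmultiplesHom_apply, map_zsmul, hm]
    exact (pi_eq_sum_univ' e).symm
  refine ⟨_, φ, h.comp (AddMonoidHom.toMultiplicative s), hφ, fun e he => ?_, fun m₀ => ?_⟩
  · have h1 : vh (AddMonoidHom.toMultiplicative s e) = 1 := Units.ext he
    have h2 : φ (s e.toAdd) = 0 := by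
      show eb (QuotientAddGroup.mk' Z (s e.toAdd)) = 0
      rw [show QuotientAddGroup.mk' Z (s e.toAdd) = 0 from (QuotientAddGroup.eq_zero_iff _).mpr h1, map_zero]
    rw [hs] at h2
    exact toAdd_eq_zero.mp h2
  · have h1 : m₀.toAdd - s (φ m₀.toAdd) ∈ Z := by
      refine (QuotientAddGroup.eq_zero_iff _).mp (eb.injective ?_)
      rw [map_zero]
      show φ (m₀.toAdd - s (φ m₀.toAdd)) = 0
      rw [map_sub, hs, sub_self]
    have h2 : vh (m₀ / AddMonoidHom.toMultiplicative s (AddMonoidHom.toMultiplicative φ m₀)) = 1 := h1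
    rw [map_div] at h2
    rw [MonoidHom.comp_apply]
    have h3 : vh m₀ / vh (AddMonoidHom.toMultiplicative s (AddMonoidHom.toMultiplicative φ m₀)) = 1 := h2
    rw [show vh = (Units.map (ValuationRing.valuation R K).toMonoidWithZeroHom.toMonoidHom).comp h from rfl,
      MonoidHom.comp_apply, MonoidHom.comp_apply, ← map_div] at h3
    exact congrArg Units.val h3

theorem exists_lift_char {M : Type} [AddCommGroup M] (h : Multiplicative M →* Kˣ)
    (hv : ∀ m, ValuationRing.valuation R K (h m : K) = 1) :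
    ∃ hR : Multiplicative M →* R, ∀ m, algebraMap R K (hR m) = h m := by
  have hex : ∀ m, ∃ x : R, algebraMap R K x = h m := fun m =>
    (ValuationRing.mem_integer_iff R K _).mp ((Valuation.mem_integer_iff _ _).mpr (hv m).le)
  choose x hx using hex
  exact ⟨{ toFun := x
           map_one' := IsFractionRing.injective R K (by rw [hx, map_one, map_one, Units.val_one])
           map_mul' := fun a b => IsFractionRing.injective R K (by
             rw [hx, map_mul, map_mul, hx, hx, Units.val_mul]) }, hx⟩

variable {S : Scheme.{u}} {G : Over S} [GrpObj G] [IsSeparated G.hom] [QuasiCompact G.hom]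
  [LocallyOfFiniteType G.hom]

/-- Valuative existence for a monomorphism out of a diagonalisable group. -/
theorem exists_integral {M : Type} [AddCommGroup M] (hM : AddGroup.FG M) (u : Red.DS S M ⟶ G) [IsMonHom u]
    [Mono u] (p : Spec (CommRingCat.of R) ⟶ S) (h : Multiplicative M →* Kˣ)
    (g : Over.mk (pt p (RingHom.id R)) ⟶ G)
    (hg : res p (RingHom.id R) (algebraMap R K) (algebraMap R K) (RingHom.comp_id _) ≫ g =
      dsPoint M (pt p (algebraMap R K)) ((Units.coeHom K).comp h) ≫ u) :
    ∃ hR : Multiplicative M →* R, ∀ m, algebraMap R K (hR m) = h m := by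
  obtain ⟨r, φ, π, hφ, hπ, hval⟩ := exists_split (R := R) M hM h
  let π' := π.comp (AddMonoidHom.toMultiplicative φ)
  obtain ⟨hR, hhR⟩ := exists_lift_char (R := R) (h / π') hval
  haveI : IsMonHom (Red.DSmap S φ) := isMonHom_DSmap S φ
  set pK := pt p (algebraMap R K)
  let g' := g * (dsPoint M (pt p (RingHom.id R)) hR ≫ u)⁻¹
  let Φ : (Multiplicative M →* Kˣ) →* (Over.mk pK ⟶ Red.DS S M) :=
    MonoidHom.mk' (fun χ => dsPoint M pK ((Units.coeHom K).comp χ)) (fun a b => by
      rw [← map_mul]
      exact congrArg _ (MonoidHom.ext fun m => Units.val_mul _ _))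
  have hg' : res p (RingHom.id R) (algebraMap R K) (algebraMap R K) (RingHom.comp_id _) ≫ g' =
      dsPoint (Fin r → ℤ) pK ((Units.coeHom K).comp π) ≫ Red.DSmap S φ ≫ u := by
    have h1 : ((algebraMap R K : R →* K)).comp hR = (Units.coeHom K).comp (h / π') := MonoidHom.ext hhR
    have h2 : dsPoint (Fin r → ℤ) pK ((Units.coeHom K).comp π) ≫ Red.DSmap S φ = Φ π' := dsPoint_DSmap pK φ _
    rw [MonObj.comp_mul, hg, GrpObj.comp_inv, ← Category.assoc, res_dsPoint, h1, ← Category.assoc, h2]
    show (Φ h ≫ u) * (Φ (h / π') ≫ u)⁻¹ = Φ π' ≫ u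
    rw [← zpow_neg_one, mul_zpow_comp u (Φ h) (Φ (h / π')) (-1)]
    refine (congrArg (fun z => (Φ h * z) ≫ u) (map_zpow Φ (h / π') (-1)).symm).trans ?_
    refine (congrArg (· ≫ u) (map_mul Φ h _).symm).trans ?_
    rw [show h * (h / π') ^ (-1 : ℤ) = π' from MonoidHom.ext fun m => by simp]
  have h1 := eq_one_of_integral_point p (Red.DSmap S φ ≫ u) π g' hπ hg'
  rw [← Category.assoc, dsPoint_DSmap] at h1
  have h3 := (cancel_mono u).mp (h1.trans (MonObj.one_comp u).symm)
  rw [← map_one (dsPoint M _)] at h3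
  have h4 := (dsPoint M _).injective h3
  have hL : ∀ e : Multiplicative (Fin r → ℤ), e = 1 := fun e => by
    obtain ⟨m, hm⟩ := hφ e.toAdd
    have h5 := DFunLike.congr_fun h4 (Multiplicative.ofAdd m)
    simp only [MonoidHom.comp_apply, MonoidHom.one_apply, MonoidAlgebra.of_apply, MonoidAlgebra.one_def] at h5
    have h6 := MonoidAlgebra.single_left_injective one_ne_zero h5
    refine Eq.trans ?_ h6
    exact (congrArg Multiplicative.ofAdd hm).symm
  refine ⟨hR, fun m => ?_⟩
  rw [hhR, show (h / π') m = h m by simp [π', hL]]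

/-- A monomorphism `D(M) → G` is a closed immersion. -/
theorem isClosedImmersion_of_mono_DS {M : Type} [AddCommGroup M] (hM : AddGroup.FG M) (u : Red.DS S M ⟶ G)
    [IsMonHom u] [Mono u] : IsClosedImmersion u.left := by
  haveI hlft : LocallyOfFiniteType (Red.DS S M).hom := by
    haveI := locallyOfFiniteType_diag.{u} M hM
    show LocallyOfFiniteType (pullback.snd (Red.diag (ULift.{u} ℤ) M).hom _)
    infer_instance
  haveI : IsAffineHom (Red.DS S M).hom := DiagGrp.isAffineHom_DS S M
  haveI : LocallyOfFiniteType (u.left ≫ G.hom) := by rw [Over.w]; exact hlft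
  haveI : LocallyOfFiniteType u.left := locallyOfFiniteType_of_comp u.left G.hom
  haveI : IsAffineHom (u.left ≫ G.hom) := by rw [Over.w]; infer_instance
  haveI : IsAffineHom u.left := IsAffineHom.of_comp _ G.hom
  haveI : UniversallyClosed u.left := by
    refine UniversallyClosed.of_valuativeCriterion u.left fun sq => ?_
    let p : Spec (CommRingCat.of sq.R) ⟶ S := sq.i₂ ≫ G.hom
    have hid : pt p (RingHom.id sq.R) = p := by
      show Spec.map _ ≫ p = p
      rw [CommRingCat.ofHom_id, Spec.map_id, Category.id_comp]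
    let pK := pt p (algebraMap sq.R sq.K)
    let gR : Over.mk (pt p (RingHom.id sq.R)) ⟶ G := Over.homMk sq.i₂ hid.symm
    let xK : Over.mk pK ⟶ Red.DS S M := Over.homMk sq.i₁ (by
      show sq.i₁ ≫ (Red.DS S M).hom = pK
      rw [← Over.w u, ← Category.assoc, sq.commSq.w, Category.assoc])
    obtain ⟨χ, hχ⟩ := (dsPoint M pK).surjective xK
    let h : Multiplicative M →* sq.Kˣ := χ.toHomUnits
    have hh : (Units.coeHom sq.K).comp h = χ := MonoidHom.ext fun m => χ.coe_toHomUnits m
    have hg : res p (RingHom.id sq.R) (algebraMap sq.R sq.K) (algebraMap sq.R sq.K) (RingHom.comp_id _) ≫ gR =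
        dsPoint M pK ((Units.coeHom sq.K).comp h) ≫ u := by
      rw [hh, hχ]
      exact Over.OverMorphism.ext sq.commSq.w.symm
    obtain ⟨hR, hhR⟩ := exists_integral hM u p h gR hg
    let lR : Over.mk (pt p (RingHom.id sq.R)) ⟶ Red.DS S M := dsPoint M _ hR
    have hl : res p (RingHom.id sq.R) (algebraMap sq.R sq.K) (algebraMap sq.R sq.K) (RingHom.comp_id _) ≫ lR = xK := by
      rw [res_dsPoint, ← hχ, ← hh]
      exact congrArg _ (MonoidHom.ext hhR)
    refine ⟨⟨⟨lR.left, congrArg CommaMorphism.left hl, ?_⟩⟩⟩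
    haveI : IsDominant (Spec.map (CommRingCat.ofHom (algebraMap sq.R sq.K))) := by
      rw [isDominant_iff]
      refine (PrimeSpectrum.denseRange_comap_iff_ker_le_nilRadical _).mpr (le_of_eq_of_le ?_ bot_le)
      exact (RingHom.injective_iff_ker_eq_bot (algebraMap sq.R sq.K)).mp (IsFractionRing.injective _ _)
    refine ext_of_isDominant_of_isSeparated G.hom ?_ (Spec.map (CommRingCat.ofHom (algebraMap sq.R sq.K))) ?_
    · exact (Over.w (lR ≫ u)).trans hid
    · rw [← sq.commSq.w, ← Category.assoc,
        show Spec.map (CommRingCat.ofHom (algebraMap sq.R sq.K)) ≫ lR.left = sq.i₁ from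
          congrArg CommaMorphism.left hl]
  haveI : Mono u.left := (inferInstance : Mono ((Over.forget S).map u))
  haveI : IsProper u.left := {}
  exact (IsClosedImmersion.iff_isProper_and_mono u.left).mpr ⟨inferInstance, inferInstance⟩

end GrothLib.MonoMT14
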