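import Groth.Agent.Lib.MonoMT14.GoodAny
import Groth.Agent.Lib.MonoMT14.Closed

/-!
Images of homomorphisms from diagonalisable groups of any type into separated groups of finite presentation.
-/

universe u

open CategoryTheory MonoidalCategory CartesianMonoidalCategory MonObj GrpObj AlgebraicGeometry
open CategoryTheory.Limits

namespace GrothLib.MonoMT14

open GrothLib.DiagGrp GrothLib.SubTorus14

variable {S : Scheme.{u}} {L : Type} [AddCommGroup L] {G : Over S} [GrpObj G]

/-- Two local kernel data over open pieces glue over the union. -/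
theorem good_of_cover {X : Over S} (q : Red.DS S L ⟶ X) (U : S.Opens) (Δ : AddSubgroup L)
    (h : ∀ s ∈ U, ∃ V : S.Opens, s ∈ V ∧ QuotTorus14.Good q V Δ) : QuotTorus14.Good q U Δ := by
  intro C _ p hp a b
  have key : ∀ {Y Y' : Over S} (v : Red.DS S L ⟶ Y) (v' : Red.DS S L ⟶ Y'),
      (∀ (V : S.Opens), QuotTorus14.Good q V Δ → ∀ (C' : Type u) [CommRing C']
        (p' : Spec (CommRingCat.of C') ⟶ S), (∀ x, p'.base x ∈ V) →
        ∀ a b : Over.mk p' ⟶ Red.DS S L, a ≫ v = b ≫ v → a ≫ v' = b ≫ v') →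
      a ≫ v = b ≫ v → a ≫ v' = b ≫ v' := by
    intro Y Y' v v' hh hab
    apply Over.OverMorphism.ext
    refine Scheme.hom_ext_of_forall _ _ fun P => ?_
    obtain ⟨V₀, hV₀, hVgood⟩ := h (p.base P) (hp P)
    obtain ⟨V, hV, hPV, hVU⟩ := exists_isAffineOpen_mem_and_subset (show P ∈ p ⁻¹ᵁ V₀ from hV₀)
    refine ⟨V, hPV, ?_⟩
    let j : Over.mk (hV.fromSpec ≫ p) ⟶ Over.mk p := Over.homMk hV.fromSpec rfl
    have h1 := hh V₀ hVgood _ (hV.fromSpec ≫ p) (fun x => by
      have hx := Set.mem_range_self (f := hV.fromSpec) x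
      rw [hV.range_fromSpec] at hx
      exact hVU hx) (j ≫ a) (j ≫ b)
      (by rw [Category.assoc, Category.assoc, hab])
    have h2 : hV.fromSpec ≫ (a ≫ v').left = hV.fromSpec ≫ (b ≫ v').left := by
      have h3 := congrArg (fun t => t.left) h1
      simp only [Over.comp_left, Category.assoc] at h3
      exact h3
    rw [← IsAffineOpen.isoSpec_hom_fromSpec hV, Category.assoc, Category.assoc]
    exact congrArg (hV.isoSpec.hom ≫ ·) h2
  exact ⟨key q (Red.DSmap S Δ.subtype) fun V hV C' _ p' hp' a b => (hV C' p' hp' a b).mp,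
    key (Red.DSmap S Δ.subtype) q fun V hV C' _ p' hp' a b => (hV C' p' hp' a b).mpr⟩

variable [IsSeparated G.hom]

/-- The kernel is `D(L/Λ)` on a clopen neighbourhood of every point, with `Λ` finitely generated. -/
theorem exists_clopen_good (hG : LocallyOfFinitePresentation G.hom) (f : Red.DS S L ⟶ G) [IsMonHom f] (s : S) :
    ∃ U : S.Opens, s ∈ U ∧ IsClosed (U : Set S) ∧ ∃ Λ : AddSubgroup L, Λ.FG ∧ QuotTorus14.Good f U Λ := by
  choose V hV Δ hfg hΔ using exists_good_hom hG f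
  have hlc : IsLocallyConstant Δ := (IsLocallyConstant.iff_exists_open _).mpr fun x =>
    ⟨V x, (V x).isOpen, hV x, fun t ht => le_antisymm
      (QuotTorus14.good_unique f (hΔ x) (hΔ t) t ht (hV t))
      (QuotTorus14.good_unique f (hΔ t) (hΔ x) t (hV t) ht)⟩
  let U : S.Opens := ⟨Δ ⁻¹' {Δ s}, hlc.isOpen_fiber _⟩
  refine ⟨U, rfl, (hlc.isClosed_fiber _ :), Δ s, hfg s, good_of_cover f U _ fun t ht => ⟨V t, hV t, ?_⟩⟩
  rw [show Δ s = Δ t from (show Δ t = Δ s from ht).symm]
  exact hΔ t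

/-- On a clopen piece a homomorphism out of `D(L)` is restriction to `D(Λ)` followed by a closed immersion. -/
theorem exists_clopen_image [QuasiCompact G.hom] (hG : LocallyOfFinitePresentation G.hom)
    (f : Red.DS S L ⟶ G) [IsMonHom f] (s : S) :
    ∃ U : S.Opens, s ∈ U ∧ IsClosed (U : Set S) ∧ ∃ Λ : AddSubgroup L, Λ.FG ∧
      ∃ j : Red.bc U.ι (Red.DS S Λ) ⟶ Red.bc U.ι G, IsMonHom j ∧ IsClosedImmersion j.left ∧
        (Over.pullback U.ι).map f = (Over.pullback U.ι).map (Red.DSmap S Λ.subtype) ≫ j := by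
  obtain ⟨U, hsU, hUc, Λ, hΛ, hgood⟩ := exists_clopen_good hG f s
  haveI : IsMonHom (Red.DSmap S Λ.subtype) := isMonHom_DSmap S Λ.subtype
  obtain ⟨hfl, hsu, hqc⟩ := dsmap_fpqc (W := S) Λ.subtype Subtype.val_injective
  set c := (Over.pullback U.ι).map (Red.DSmap S Λ.subtype)
  set l := (Over.pullback U.ι).map f
  haveI : Flat c.left := MorphismProperty.baseChange_map (P := @Flat) U.ι _ hfl
  haveI : Surjective c.left := MorphismProperty.baseChange_map (P := @Surjective) U.ι _ hsu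
  haveI : QuasiCompact c.left := MorphismProperty.baseChange_map (P := @QuasiCompact) U.ι _ hqc
  have hiff : ∀ (C : Type u) [CommRing C] (p : Spec (CommRingCat.of C) ⟶ (U : Scheme.{u}))
      (a b : Over.mk p ⟶ Red.bc U.ι (Red.DS S L)), a ≫ l = b ≫ l ↔ a ≫ c = b ≫ c := by
    intro C _ p a b
    obtain ⟨a, rfl⟩ := (bcPoint U.ι (Red.DS S L) (Over.mk p)).surjective a
    obtain ⟨b, rfl⟩ := (bcPoint U.ι (Red.DS S L) (Over.mk p)).surjective b
    rw [← bcPoint_comp_right, ← bcPoint_comp_right, ← bcPoint_comp_right, ← bcPoint_comp_right,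
      EmbeddingLike.apply_eq_iff_eq, EmbeddingLike.apply_eq_iff_eq]
    exact hgood C (p ≫ U.ι) (fun x => (p.base x).2) a b
  obtain ⟨j, hj⟩ := exists_desc c l fun C _ p a b => (hiff C p a b).mpr
  haveI : IsMonHom (c ≫ j) := by rw [hj]; infer_instance
  haveI : IsMonHom j := QuotTorus14.isMonHom_desc c j
  haveI : Mono j := mono_of_trivial_kernel j fun Y g hg =>
    eq_one_of_lift c j (𝟙 _) (fun C _ t a ha => by
      rw [Category.assoc, hj, ← MonObj.one_comp (X := Over.mk (t ≫ 𝟙 _)) l] at ha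
      exact ((hiff C _ a 1).mp ha).trans (MonObj.one_comp _)) Y Y.hom (Category.comp_id _) g hg
  refine ⟨U, hsU, hUc, Λ, hΛ, j, inferInstance, ?_, hj.symm⟩
  haveI := isIso_dsBc U.ι Λ
  haveI := isMonHom_dsBc U.ι Λ
  haveI : IsSeparated (Red.bc U.ι G).hom :=
    MorphismProperty.pullback_snd (P := @IsSeparated) _ _ ‹IsSeparated G.hom›
  haveI : QuasiCompact (Red.bc U.ι G).hom :=
    MorphismProperty.pullback_snd (P := @QuasiCompact) _ _ ‹QuasiCompact G.hom›
  haveI : LocallyOfFiniteType (Red.bc U.ι G).hom :=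
    MorphismProperty.pullback_snd (P := @LocallyOfFiniteType) _ _ (inferInstance : LocallyOfFiniteType G.hom)
  have h1 := isClosedImmersion_of_mono_DS ((AddGroup.fg_iff_addSubgroup_fg Λ).mpr hΛ) (dsBc U.ι Λ ≫ j)
  haveI : IsIso (dsBc U.ι Λ).left := inferInstanceAs (IsIso ((Over.forget _).map (dsBc U.ι Λ)))
  rw [Over.comp_left, MorphismProperty.cancel_left_of_respectsIso @IsClosedImmersion] at h1
  exact h1

end GrothLib.MonoMT14
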