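import Groth.Agent.Lib.MonoMT14.ToOpen

/-!
Pigeonhole: among infinitely many generic translates some reduces to a constant point.
-/

universe u

namespace GrothLib.MonoMT14

open CategoryTheory CategoryTheory.Limits AlgebraicGeometry

variable {R : Type u} [CommRing R] [IsLocalRing R] {A : Type u} [CommRing A]
variable {F E k : Type u} [Field F] [Field E] [Field k]

/-- Of infinitely many translates `P j` one reduces to a constant point over `k`. -/
theorem exists_constant_translate {X Y : Scheme.{u}} (f : X ⟶ Y) [QuasiCompact f] [LocallyOfFiniteType f]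
    (p : Spec (CommRingCat.of R) ⟶ Y) (cR : R →+* A) (iF : A →+* F) (iE : A →+* E) (res : R →+* k)
    (toEk : k →+* E) (hres : toEk.comp res = iE.comp cR) (hker : ∀ B, iE B ≠ 0 → iF B ≠ 0)
    (τ : ℤ → (F →+* F))
    (hfin : ∀ x : F, {j : ℤ | ∃ (a b : A), iE b ≠ 0 ∧ τ j x * iF b = iF a ∧
      ∀ c, iE a ≠ toEk c * iE b}.Finite)
    (P : ℤ → (Spec (CommRingCat.of A) ⟶ X)) (hP : ∀ j, P j ≫ f = Spec.map (CommRingCat.ofHom cR) ≫ p)
    (b : Spec (CommRingCat.of F) ⟶ X)
    (hb : ∀ j, Spec.map (CommRingCat.ofHom (τ j)) ≫ b = Spec.map (CommRingCat.ofHom iF) ≫ P j) :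
    ∃ (j : ℤ) (y : Spec (CommRingCat.of k) ⟶ X), y ≫ f = Spec.map (CommRingCat.ofHom res) ≫ p ∧
      Spec.map (CommRingCat.ofHom toEk) ≫ y = Spec.map (CommRingCat.ofHom iE) ≫ P j := by
  classical
  obtain ⟨U, hU, hsU, -⟩ := exists_isAffineOpen_mem_and_subset
    (TopologicalSpace.Opens.mem_top (p.base (IsLocalRing.closedPoint R)))
  have hpU : ∀ x, p.base x ∈ U := fun x =>
    ((IsLocalRing.specializes_closedPoint (R := R) x).map p.continuous).mem_open U.2 hsU
  obtain ⟨cov, hfinc, hcov⟩ := isCompact_iff_finite_and_eq_biUnion_affineOpens.mp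
    (f.isCompact_preimage hU.isCompact : IsCompact ((f ⁻¹ᵁ U : X.Opens) : Set X))
  let x₀ : PrimeSpectrum A := PrimeSpectrum.comap iE ⊥
  have hmem : ∀ j, ∃ W ∈ cov, (P j).base x₀ ∈ (W : X.Opens) := by
    intro j
    have h1 : (P j).base x₀ ∈ f ⁻¹ᵁ U := by
      show (P j ≫ f).base x₀ ∈ U
      rw [hP]
      exact hpU _
    rw [hcov] at h1
    simp only [TopologicalSpace.Opens.mem_iSup] at h1
    obtain ⟨W, hW, hx⟩ := h1
    exact ⟨W, hW, hx⟩
  choose Wj hWj hxj using hmem
  haveI : Finite cov := hfinc.to_subtype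
  obtain ⟨⟨⟨W, hW⟩, hWcov⟩, hinf⟩ := Finite.exists_infinite_fiber (fun j : ℤ => (⟨Wj j, hWj j⟩ : cov))
  rw [Set.infinite_coe_iff] at hinf
  set J := (fun j : ℤ => (⟨Wj j, hWj j⟩ : cov)) ⁻¹' {⟨⟨W, hW⟩, hWcov⟩}
  have hJ : ∀ j ∈ J, (P j).base x₀ ∈ W := fun j hj => by
    have := congrArg (fun z : cov => ((z : X.affineOpens) : X.Opens)) hj
    simp only at this
    rw [← this]
    exact hxj j
  have hWle : W ≤ f ⁻¹ᵁ U := hcov ▸ le_iSup₂_of_le (⟨W, hW⟩ : X.affineOpens) hWcov le_rfl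
  have hdata : ∀ j ∈ J, ∃ B : A, iE B ≠ 0 ∧ ∀ (D : Type u) [CommRing D] (h : A →+* D), IsUnit (h B) →
      ∀ y, (Spec.map (CommRingCat.ofHom h) ≫ P j).base y ∈ W := fun j hj => by
    obtain ⟨B, hB, h⟩ := exists_basic (P j) x₀ (hJ j hj)
    refine ⟨B, fun h0 => hB ?_, h⟩
    show iE B ∈ (⊥ : Ideal E)
    rw [h0]
    exact Submodule.zero_mem _
  choose Bj hBj hBW using hdata
  have hEW : ∀ j ∈ J, ∀ y, (Spec.map (CommRingCat.ofHom iE) ≫ P j).base y ∈ W := fun j hj =>
    hBW j hj E iE (hBj j hj).isUnit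
  obtain ⟨j₀, hj₀⟩ := hinf.nonempty
  have hbW : ∀ y, b.base y ∈ W := by
    intro y
    obtain ⟨z, hz⟩ : ∃ z, (Spec.map (CommRingCat.ofHom (τ j₀))).base z = y :=
      ⟨y, Subsingleton.elim (α := PrimeSpectrum F) _ _⟩
    have h1 := hBW j₀ hj₀ F iF (hker _ (hBj j₀ hj₀)).isUnit z
    rw [← hb j₀] at h1
    rw [← hz]
    exact h1
  have hbad : ∀ x : Γ(X, W), {j | ∃ hj : j ∈ J,
      toW hW (Spec.map (CommRingCat.ofHom iE) ≫ P j) (hEW j hj) x ∉ toEk.range}.Finite := by
    intro x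
    refine (hfin (toW hW b hbW x)).subset ?_
    rintro j ⟨hj, hnot⟩
    let Loc := Localization.Away (Bj j hj)
    have hu : IsUnit (algebraMap A Loc (Bj j hj)) := IsLocalization.Away.algebraMap_isUnit _
    let θ : Γ(X, W) →+* Loc :=
      toW hW (Spec.map (CommRingCat.ofHom (algebraMap A Loc)) ≫ P j) (hBW j hj Loc _ hu)
    obtain ⟨n, a, ha⟩ := IsLocalization.Away.surj (Bj j hj) (θ x)
    let lF : Loc →+* F := IsLocalization.Away.lift (Bj j hj) (hker _ (hBj j hj)).isUnit
    let lE : Loc →+* E := IsLocalization.Away.lift (Bj j hj) (hBj j hj).isUnit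
    have hlF : lF.comp (algebraMap A Loc) = iF := IsLocalization.Away.lift_comp _ _
    have hlE : lE.comp (algebraMap A Loc) = iE := IsLocalization.Away.lift_comp _ _
    have eF : Spec.map (CommRingCat.ofHom lF) ≫ Spec.map (CommRingCat.ofHom (algebraMap A Loc)) ≫ P j =
        Spec.map (CommRingCat.ofHom iF) ≫ P j := by
      rw [← Category.assoc, ← Spec.map_comp, ← CommRingCat.ofHom_comp, hlF]
    have eE : Spec.map (CommRingCat.ofHom lE) ≫ Spec.map (CommRingCat.ofHom (algebraMap A Loc)) ≫ P j =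
        Spec.map (CommRingCat.ofHom iE) ≫ P j := by
      rw [← Category.assoc, ← Spec.map_comp, ← CommRingCat.ofHom_comp, hlE]
    have hmemF : ∀ y, (Spec.map (CommRingCat.ofHom iF) ≫ P j).base y ∈ W :=
      comp_mem _ lF _ eF (hBW j hj Loc _ hu)
    have hF1 := toW_comp hW _ (hBW j hj Loc _ hu) lF _ eF hmemF
    have hF2 := toW_comp hW b hbW (τ j) _ (hb j) hmemF
    have hE1 := toW_comp hW _ (hBW j hj Loc _ hu) lE _ eE (hEW j hj)
    refine ⟨a, Bj j hj ^ n, by rw [map_pow]; exact pow_ne_zero _ (hBj j hj), ?_, fun c hc => hnot ⟨c, ?_⟩⟩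
    · have h := congrArg lF ha
      rw [map_mul, map_pow, ← RingHom.comp_apply lF (algebraMap A Loc),
        ← RingHom.comp_apply lF (algebraMap A Loc), hlF] at h
      rw [map_pow, ← RingHom.comp_apply (τ j), ← hF2, hF1]
      exact h
    · have h := congrArg lE ha
      rw [map_mul, map_pow, ← RingHom.comp_apply lE (algebraMap A Loc),
        ← RingHom.comp_apply lE (algebraMap A Loc), hlE, hc, map_pow] at h
      rw [hE1]
      exact (mul_right_cancel₀ (pow_ne_zero _ (hBj j hj)) h).symm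
  have hft : (f.appLE U W hWle).hom.FiniteType := f.finiteType_appLE hU hW hWle
  letI : Algebra Γ(Y, U) Γ(X, W) := (f.appLE U W hWle).hom.toAlgebra
  obtain ⟨gens, hgens⟩ := (show Algebra.FiniteType Γ(Y, U) Γ(X, W) from hft).out
  obtain ⟨j, hjJ, hj⟩ := (hinf.diff (Set.Finite.biUnion gens.finite_toSet fun x _ => hbad x)).nonempty
  simp only [Set.mem_iUnion, not_exists] at hj
  let ej := toW hW (Spec.map (CommRingCat.ofHom iE) ≫ P j) (hEW j hjJ)
  have hej : ∀ x, ej x ∈ toEk.range := by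
    have hbase : ∀ a : Γ(Y, U), ej (algebraMap _ _ a) ∈ toEk.range := by
      intro a
      have hm : ∀ y, (Spec.map (CommRingCat.ofHom (iE.comp cR)) ≫ p).base y ∈ U := fun y => hpU _
      have h1 := toW_appLE hW (Spec.map (CommRingCat.ofHom iE) ≫ P j) (hEW j hjJ) f hU hWle
        (Spec.map (CommRingCat.ofHom (iE.comp cR)) ≫ p)
        (by rw [Category.assoc, hP, ← Category.assoc, ← Spec.map_comp, ← CommRingCat.ofHom_comp]) hm
      have h2 := toW_comp hU p hpU (iE.comp cR) _ rfl hm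
      refine ⟨res (toW hU p hpU a), ?_⟩
      rw [← RingHom.comp_apply toEk, hres]
      exact RingHom.congr_fun (h2.symm.trans h1) a
    intro x
    have hx : x ∈ Algebra.adjoin Γ(Y, U) (gens : Set Γ(X, W)) := by rw [hgens]; trivial
    induction hx using Algebra.adjoin_induction with
    | mem x hx => by_contra h; exact hj x hx ⟨hjJ, h⟩
    | algebraMap a => exact hbase a
    | add x y _ _ hx hy => rw [map_add]; exact add_mem hx hy
    | mul x y _ _ hx hy => rw [map_mul]; exact mul_mem hx hy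
  have hkinj : Function.Injective toEk := RingHom.injective _
  let ek : k ≃+* toEk.range := RingEquiv.ofBijective toEk.rangeRestrict
    ⟨fun a b h => hkinj (congrArg Subtype.val h), toEk.rangeRestrict_surjective⟩
  let θk : Γ(X, W) →+* k := ek.symm.toRingHom.comp (ej.codRestrict toEk.range hej)
  have hθk : toEk.comp θk = ej := RingHom.ext fun x =>
    congrArg Subtype.val (ek.apply_symm_apply ⟨ej x, hej x⟩)
  haveI : Epi (Spec.map (CommRingCat.ofHom toEk)) := by
    haveI : Flat (Spec.map (CommRingCat.ofHom toEk)) := by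
      rw [HasRingHomProperty.Spec_iff (P := @Flat)]
      letI := toEk.toAlgebra
      exact (inferInstance : Module.Flat k E)
    haveI : Surjective (Spec.map (CommRingCat.ofHom toEk)) :=
      ⟨fun x => ⟨(⊥ : PrimeSpectrum E), Subsingleton.elim (α := PrimeSpectrum k) _ _⟩⟩
    exact Flat.epi_of_flat_of_surjective _
  have hfac : Spec.map (CommRingCat.ofHom toEk) ≫ Spec.map (CommRingCat.ofHom θk) ≫ hW.fromSpec =
      Spec.map (CommRingCat.ofHom iE) ≫ P j := by
    rw [← Category.assoc, ← Spec.map_comp, ← CommRingCat.ofHom_comp, hθk, toW_fac]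
  refine ⟨j, Spec.map (CommRingCat.ofHom θk) ≫ hW.fromSpec, ?_, hfac⟩
  rw [← cancel_epi (Spec.map (CommRingCat.ofHom toEk)), ← Category.assoc, hfac, Category.assoc, hP,
    ← Category.assoc, ← Spec.map_comp, ← CommRingCat.ofHom_comp, ← hres, CommRingCat.ofHom_comp, Spec.map_comp,
    Category.assoc]

end GrothLib.MonoMT14
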