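import Groth.Agent.Lib.MonoMT14.Algebra
import Groth.Agent.Lib.MonoMT14.Pigeon
import Groth.Agent.Lib.DiagGrp.Points
import Groth.Agent.Lib.DiagGrp.CharHom

/-!
A homomorphism from a split torus to a separated quasi-compact group whose value at a point with
independent valuations is integral is trivial on the closed fibre.
-/

universe u

namespace GrothLib.MonoMT14

open CategoryTheory MonoidalCategory CartesianMonoidalCategory MonObj GrpObj AlgebraicGeometry
open CategoryTheory.Limits GrothLib.DiagGrp

variable {S : Scheme.{u}} {R : Type u} [CommRing R] (p : Spec (CommRingCat.of R) ⟶ S)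

/-- The structure map of the affine scheme over `R` attached to a ring map. -/
noncomputable abbrev pt {C : Type u} [CommRing C] (a : R →+* C) : Spec (CommRingCat.of C) ⟶ S :=
  Spec.map (CommRingCat.ofHom a) ≫ p

/-- Restriction along a ring map. -/
noncomputable def res {C C' : Type u} [CommRing C] [CommRing C'] (a : R →+* C) (a' : R →+* C')
    (h : C →+* C') (hh : h.comp a = a') : Over.mk (pt p a') ⟶ Over.mk (pt p a) :=
  Over.homMk (Spec.map (CommRingCat.ofHom h)) (by
    show Spec.map (CommRingCat.ofHom h) ≫ Spec.map (CommRingCat.ofHom a) ≫ p = _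
    rw [← Category.assoc, ← Spec.map_comp, ← CommRingCat.ofHom_comp, hh]
    rfl)

theorem res_comp {C C' C'' : Type u} [CommRing C] [CommRing C'] [CommRing C''] (a : R →+* C) (a' : R →+* C')
    (a'' : R →+* C'') (h : C →+* C') (hh : h.comp a = a') (h' : C' →+* C'') (hh' : h'.comp a' = a'') :
    res p a' a'' h' hh' ≫ res p a a' h hh =
      res p a a'' (h'.comp h) (by rw [RingHom.comp_assoc, hh, hh']) := by
  apply Over.OverMorphism.ext
  show Spec.map _ ≫ Spec.map _ = Spec.map _
  rw [← Spec.map_comp, ← CommRingCat.ofHom_comp]

theorem res_congr {C C' : Type u} [CommRing C] [CommRing C'] (a : R →+* C) (a' : R →+* C')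
    {h h' : C →+* C'} (hh : h.comp a = a') (hh' : h'.comp a = a') (e : h = h') :
    res p a a' h hh = res p a a' h' hh' := by subst e; rfl

theorem res_dsPoint (M : Type) [AddCommGroup M] {C C' : Type u} [CommRing C] [CommRing C'] (a : R →+* C)
    (a' : R →+* C') (h : C →+* C') (hh : h.comp a = a') (χ : Multiplicative M →* C) :
    res p a a' h hh ≫ dsPoint M (pt p a) χ = dsPoint M (pt p a') ((h : C →* C').comp χ) :=
  dsPoint_comp _ _ h χ _

theorem mul_zpow_comp {T A B : Over S} [GrpObj A] [GrpObj B] (f : A ⟶ B) [IsMonHom f] (x y : T ⟶ A) (n : ℤ) :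
    (x ≫ f) * (y ≫ f) ^ n = (x * y ^ n) ≫ f := by
  rw [← GrpObj.zpow_comp, ← MonObj.mul_comp]

variable [IsDomain R] [ValuationRing R]
variable {K : Type u} [Field K] [Algebra R K] [IsFractionRing R K]
variable {r : ℕ} {G : Over S} [GrpObj G] [IsSeparated G.hom] [QuasiCompact G.hom] [LocallyOfFiniteType G.hom]

local notation "M" => Multiplicative (Fin r → ℤ)

theorem single_injective {k : Type u} [CommRing k] :
    Function.Injective (MonoidAlgebra.singleOneRingHom : k →+* MonoidAlgebra k M) := fun a b h => by
  simpa using congrArg (fun z => z.coeff 1) h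

theorem map_injective {R' K' : Type u} [CommRing R'] [CommRing K'] (h : R' →+* K') (hh : Function.Injective h) :
    Function.Injective (MonoidAlgebra.mapRingHom M h) := fun a b e => by
  ext m
  exact hh ((MonoidAlgebra.coeff_mapRingHom _ _ _).symm.trans
    ((congrArg (fun z => z.coeff m) e).trans (MonoidAlgebra.coeff_mapRingHom _ _ _)))

theorem translate_injective (π : M →* Kˣ) (j : ℤ) : Function.Injective (translate π j) := fun a b h => by
  ext m
  have := congrArg (fun z => z.coeff m) h
  simp only [coeff_translate] at this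
  exact mul_right_cancel₀ (zpow_ne_zero _ (π m).ne_zero) this

/-- The translation automorphism of the function field of the torus. -/
noncomputable def fieldTranslate (π : M →* Kˣ) (j : ℤ) :
    FractionRing (MonoidAlgebra K M) →+* FractionRing (MonoidAlgebra K M) :=
  IsFractionRing.lift (A := MonoidAlgebra K M) (K := FractionRing (MonoidAlgebra K M))
    (g := (algebraMap (MonoidAlgebra K M) (FractionRing (MonoidAlgebra K M))).comp (translate π j))
    (fun _ _ h => translate_injective π j (IsFractionRing.injective _ (FractionRing (MonoidAlgebra K M)) h))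

theorem fieldTranslate_algebraMap (π : M →* Kˣ) (j : ℤ) (x : MonoidAlgebra K M) :
    fieldTranslate π j (algebraMap _ _ x) = algebraMap _ _ (translate π j x) :=
  IsFractionRing.lift_algebraMap (g := (algebraMap (MonoidAlgebra K M) (FractionRing (MonoidAlgebra K M))).comp
    (translate π j))
    (fun _ _ h => translate_injective π j (IsFractionRing.injective _ (FractionRing (MonoidAlgebra K M)) h)) x

/-- The translation fixes the constants. -/
theorem translate_const (π : M →* Kˣ) (j : ℤ) :
    (translate π j).comp (MonoidAlgebra.singleOneRingHom.comp (algebraMap R K)) =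
      MonoidAlgebra.singleOneRingHom.comp (algebraMap R K) :=
  RingHom.ext fun x => (translate_single π j 1 _).trans (by simp)

theorem map_const {k : Type u} [CommRing k] (h : R →+* k) :
    (MonoidAlgebra.mapRingHom M h).comp MonoidAlgebra.singleOneRingHom =
      (MonoidAlgebra.singleOneRingHom : k →+* MonoidAlgebra k M).comp h :=
  RingHom.ext fun _ => MonoidAlgebra.mapRingHom_single _ _ _

theorem map_of {k : Type u} [CommRing k] (h : R →+* k) :
    ((MonoidAlgebra.mapRingHom M h : MonoidAlgebra R M →* MonoidAlgebra k M)).comp (MonoidAlgebra.of R M) =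
      MonoidAlgebra.of k M :=
  MonoidHom.ext fun x => by
    show MonoidAlgebra.mapRingHom M h (MonoidAlgebra.single x 1) = MonoidAlgebra.single x 1
    rw [MonoidAlgebra.mapRingHom_single, map_one]

/-- `translate`, at the type of endomorphisms of the group algebra of the torus. -/
noncomputable def trM (π : M →* Kˣ) : ℤ → (MonoidAlgebra K M →+* MonoidAlgebra K M) := fun j => translate π j

theorem trM_const (π : M →* Kˣ) (j : ℤ) :
    (trM π j).comp (MonoidAlgebra.singleOneRingHom.comp (algebraMap R K)) =
      MonoidAlgebra.singleOneRingHom.comp (algebraMap R K) :=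
  translate_const π j

variable (r) in
/-- The constants of the group algebra of `ℤ^r`. -/
noncomputable abbrev cst (k : Type u) [CommRing k] : k →+* MonoidAlgebra k M := MonoidAlgebra.singleOneRingHom

variable (r) in
/-- Base change of the torus along a ring map. -/
noncomputable abbrev mapM {k : Type u} [CommRing k] (h : R →+* k) :
    MonoidAlgebra R M →+* MonoidAlgebra k M := MonoidAlgebra.mapRingHom M h

variable (r) in
/-- Base change of the torus along a ring map, as a morphism over the base. -/
noncomputable def resM {k : Type u} [CommRing k] (h : R →+* k) :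
    Over.mk (pt p ((cst r k).comp h)) ⟶ Over.mk (pt p (cst r R)) :=
  res p (cst r R) ((cst r k).comp h) (mapM r h) (map_const h)

variable (u : Red.DS S (Fin r → ℤ) ⟶ G) [IsMonHom u]

/-- The universal point of the torus pushed to the group. -/
noncomputable def univP14 : Over.mk (pt p (cst r R)) ⟶ G :=
  dsPoint (Fin r → ℤ) (pt p (cst r R)) (MonoidAlgebra.of R M) ≫ u

theorem res_univP14 {k : Type u} [CommRing k] (h : R →+* k) :
    resM p r h ≫ univP14 p u =
      dsPoint (Fin r → ℤ) (pt p ((cst r k).comp h)) (MonoidAlgebra.of k M) ≫ u := by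
  rw [univP14, resM, ← Category.assoc, res_dsPoint, map_of]

variable (π : Multiplicative (Fin r → ℤ) →* Kˣ) (g : Over.mk (pt p (RingHom.id R)) ⟶ G)

/-- The translates of the universal point by the powers of `g`. -/
noncomputable def transP14 (j : ℤ) : Over.mk (pt p (cst r R)) ⟶ G :=
  univP14 p u * (res p (RingHom.id R) (cst r R) (cst r R) (RingHom.comp_id _) ≫ g) ^ j

/-- Over the fraction field the translates are pull backs by the translations. -/
theorem res_transP14
    (hg : res p (RingHom.id R) (algebraMap R K) (algebraMap R K) (RingHom.comp_id _) ≫ g =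
      dsPoint (Fin r → ℤ) (pt p (algebraMap R K)) ((Units.coeHom K).comp π) ≫ u) (j : ℤ) :
    resM p r (algebraMap R K) ≫ transP14 p u g j =
      res p ((cst r K).comp (algebraMap R K)) ((cst r K).comp (algebraMap R K)) (trM π j)
        (trM_const π j) ≫ resM p r (algebraMap R K) ≫ univP14 p u := by
  rw [transP14, MonObj.comp_mul, GrpObj.comp_zpow, res_univP14, resM,
    ← Category.assoc (res p (cst r R) _ _ _) (res p (RingHom.id R) _ _ _), res_comp,
    res_congr p _ _ _ (RingHom.comp_id _) (map_const (algebraMap R K)),
    ← res_comp p (RingHom.id R) (algebraMap R K) ((cst r K).comp (algebraMap R K)) (algebraMap R K)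
      (RingHom.comp_id _) (cst r K) rfl, Category.assoc, hg,
    ← Category.assoc (res p (algebraMap R K) _ (cst r K) rfl), res_dsPoint,
    ← Category.assoc (res p _ _ (trM π j) (trM_const π j)), res_dsPoint]
  refine (mul_zpow_comp u _ _ j).trans ?_
  let Φ : (M →* Kˣ) →* (Over.mk (pt p ((cst r K).comp (algebraMap R K))) ⟶ Red.DS S (Fin r → ℤ)) :=
    MonoidHom.mk' (fun φ => dsPoint (Fin r → ℤ) (pt p ((cst r K).comp (algebraMap R K)))
        ((cst r K).toMonoidHom.comp ((Units.coeHom K).comp φ)))
      (fun a b => by
        rw [← map_mul]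
        exact congrArg _ (MonoidHom.ext fun m => map_mul (cst r K) _ _))
  refine (congrArg (fun z => (dsPoint (Fin r → ℤ) (pt p ((cst r K).comp (algebraMap R K)))
    (MonoidAlgebra.of K M) * z) ≫ u) (map_zpow Φ π j).symm).trans ?_
  refine (congrArg (· ≫ u) (map_mul (dsPoint (Fin r → ℤ) (pt p ((cst r K).comp (algebraMap R K)))) _ _).symm).trans ?_
  refine congrArg (fun χ => dsPoint (Fin r → ℤ) _ χ ≫ u) (MonoidHom.ext fun e => ?_)
  show MonoidAlgebra.single e (1 : K) * MonoidAlgebra.single 1 _ = trM π j (MonoidAlgebra.single e 1)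
  rw [trM, MonoidAlgebra.single_mul_single, translate_single, _root_.mul_one, _root_.one_mul, _root_.one_mul]
  exact congrArg (MonoidAlgebra.single e) (Units.val_zpow_eq_zpow_val (π e) j)

/-- The function field of the special torus. -/
noncomputable abbrev toE (k : Type u) [Field k] (r : ℕ) :
    MonoidAlgebra k (Multiplicative (Fin r → ℤ)) →+* FractionRing (MonoidAlgebra k (Multiplicative (Fin r → ℤ))) :=
  algebraMap _ _

theorem finite_fieldTranslate (hπ : ∀ e, ValuationRing.valuation R K (π e : K) = 1 → e = 1)
    (x : FractionRing (MonoidAlgebra K M)) :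
    {j : ℤ | ∃ (a b : MonoidAlgebra R M),
      (toE (IsLocalRing.ResidueField R) r).comp (mapM r (IsLocalRing.residue R)) b ≠ 0 ∧
      fieldTranslate π j x * ((algebraMap _ (FractionRing (MonoidAlgebra K M))).comp (mapM r (algebraMap R K))) b =
        ((algebraMap _ (FractionRing (MonoidAlgebra K M))).comp (mapM r (algebraMap R K))) a ∧
      ∀ c, (toE (IsLocalRing.ResidueField R) r).comp (mapM r (IsLocalRing.residue R)) a ≠
        (toE (IsLocalRing.ResidueField R) r).comp (cst r (IsLocalRing.ResidueField R)) c *
          (toE (IsLocalRing.ResidueField R) r).comp (mapM r (IsLocalRing.residue R)) b}.Finite := by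
  obtain ⟨P', Q', hQ', rfl⟩ := IsFractionRing.div_surjective (MonoidAlgebra K M) x
  refine (finite_nonconstant π hπ P' Q' (nonZeroDivisors.ne_zero hQ')).subset ?_
  rintro j ⟨a, b, hb, heq, hc⟩
  refine ⟨a, b, fun h => hb (by rw [RingHom.comp_apply, h, map_zero]), ?_, fun c h => hc c ?_⟩
  · apply IsFractionRing.injective (MonoidAlgebra K M) (FractionRing (MonoidAlgebra K M))
    rw [map_div₀, fieldTranslate_algebraMap, fieldTranslate_algebraMap] at heq
    have hQ : algebraMap _ (FractionRing (MonoidAlgebra K M)) (translate π j Q') ≠ 0 := fun h =>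
      nonZeroDivisors.ne_zero hQ' (translate_injective π j
        ((IsFractionRing.injective _ (FractionRing (MonoidAlgebra K M)) (h.trans (map_zero _).symm)).trans
          (map_zero _).symm))
    rw [RingHom.comp_apply, RingHom.comp_apply] at heq
    rw [map_mul, map_mul, ← heq, ← _root_.mul_assoc, mul_div_cancel₀ _ hQ]
  · rw [RingHom.comp_apply, RingHom.comp_apply, RingHom.comp_apply, h, map_mul]
    rfl

theorem exists_const_translate (hπ : ∀ e, ValuationRing.valuation R K (π e : K) = 1 → e = 1)
    (hu : ∀ j, resM p r (algebraMap R K) ≫ transP14 p u g j =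
      res p ((cst r K).comp (algebraMap R K)) ((cst r K).comp (algebraMap R K)) (trM π j)
        (trM_const π j) ≫ resM p r (algebraMap R K) ≫ univP14 p u) :
    ∃ (j : ℤ) (y : Over.mk (pt p (IsLocalRing.residue R)) ⟶ G),
      res p ((cst r (IsLocalRing.ResidueField R)).comp (IsLocalRing.residue R))
          ((toE (IsLocalRing.ResidueField R) r).comp
            ((cst r (IsLocalRing.ResidueField R)).comp (IsLocalRing.residue R)))
          (toE (IsLocalRing.ResidueField R) r) rfl ≫ resM p r (IsLocalRing.residue R) ≫ transP14 p u g j =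
      res p ((cst r (IsLocalRing.ResidueField R)).comp (IsLocalRing.residue R))
          ((toE (IsLocalRing.ResidueField R) r).comp
            ((cst r (IsLocalRing.ResidueField R)).comp (IsLocalRing.residue R)))
          (toE (IsLocalRing.ResidueField R) r) rfl ≫
        res p (IsLocalRing.residue R) ((cst r (IsLocalRing.ResidueField R)).comp (IsLocalRing.residue R))
          (cst r (IsLocalRing.ResidueField R)) rfl ≫ y := by
  set toF := algebraMap (MonoidAlgebra K M) (FractionRing (MonoidAlgebra K M))
  let b : Spec (CommRingCat.of (FractionRing (MonoidAlgebra K M))) ⟶ G.left :=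
    Spec.map (CommRingCat.ofHom toF) ≫ (resM p r (algebraMap R K) ≫ univP14 p u).left
  obtain ⟨j, y, hy, hy'⟩ := exists_constant_translate G.hom p (cst r R) (toF.comp (mapM r (algebraMap R K)))
    ((toE (IsLocalRing.ResidueField R) r).comp (mapM r (IsLocalRing.residue R)))
    (IsLocalRing.residue R) ((toE (IsLocalRing.ResidueField R) r).comp (cst r (IsLocalRing.ResidueField R)))
    (by rw [RingHom.comp_assoc, RingHom.comp_assoc, map_const])
    (fun B hB h => hB (by
      have h1 := map_injective (r := r) _ (IsFractionRing.injective R K)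
        ((IsFractionRing.injective _ (FractionRing (MonoidAlgebra K M)) (h.trans (map_zero toF).symm)).trans
          (map_zero (mapM r (algebraMap R K))).symm)
      rw [h1, map_zero]))
    (fieldTranslate π) (finite_fieldTranslate π hπ) (fun j => (transP14 p u g j).left)
    (fun j => Over.w (transP14 p u g j)) b
    (fun j => by
      show Spec.map _ ≫ Spec.map (CommRingCat.ofHom toF) ≫ _ = _
      rw [← Category.assoc, ← Spec.map_comp, ← CommRingCat.ofHom_comp,
        show (fieldTranslate π j).comp toF = toF.comp (trM π j) from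
          RingHom.ext fun x => fieldTranslate_algebraMap π j x,
        CommRingCat.ofHom_comp, Spec.map_comp, Category.assoc]
      rw [show Spec.map (CommRingCat.ofHom (trM π j)) ≫ (resM p r (algebraMap R K) ≫ univP14 p u).left =
        (resM p r (algebraMap R K) ≫ transP14 p u g j).left from
          (congrArg CommaMorphism.left (hu j)).symm]
      show Spec.map (CommRingCat.ofHom toF) ≫ Spec.map (CommRingCat.ofHom (mapM r (algebraMap R K))) ≫
        (transP14 p u g j).left = _
      rw [← Category.assoc, ← Spec.map_comp, ← CommRingCat.ofHom_comp])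
  refine ⟨j, Over.homMk y hy, Over.OverMorphism.ext ?_⟩
  show Spec.map (CommRingCat.ofHom (toE (IsLocalRing.ResidueField R) r)) ≫
      Spec.map (CommRingCat.ofHom (mapM r (IsLocalRing.residue R))) ≫ (transP14 p u g j).left =
    Spec.map (CommRingCat.ofHom (toE (IsLocalRing.ResidueField R) r)) ≫
      Spec.map (CommRingCat.ofHom (cst r (IsLocalRing.ResidueField R))) ≫ y
  rw [← Category.assoc, ← Category.assoc, ← Spec.map_comp, ← Spec.map_comp, ← CommRingCat.ofHom_comp,
    ← CommRingCat.ofHom_comp, hy']

/-- If `u (π)` is integral, `u` is trivial on the closed fibre. -/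
theorem eq_one_of_integral_point (hπ : ∀ e, ValuationRing.valuation R K (π e : K) = 1 → e = 1)
    (hg : res p (RingHom.id R) (algebraMap R K) (algebraMap R K) (RingHom.comp_id _) ≫ g =
      dsPoint (Fin r → ℤ) (pt p (algebraMap R K)) ((Units.coeHom K).comp π) ≫ u) :
    dsPoint (Fin r → ℤ) (pt p ((cst r (IsLocalRing.ResidueField R)).comp (IsLocalRing.residue R)))
      (MonoidAlgebra.of (IsLocalRing.ResidueField R) M) ≫ u = 1 := by
  set res0 := IsLocalRing.residue R
  set ck := cst r (IsLocalRing.ResidueField R)
  obtain ⟨j, y, hy⟩ := exists_const_translate p u π g hπ (res_transP14 p u π g hg)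
  set gj := (res p (RingHom.id R) res0 res0 (RingHom.comp_id _) ≫ g) ^ j
  have hsplit : resM p r res0 ≫ transP14 p u g j =
      (dsPoint (Fin r → ℤ) (pt p (ck.comp res0)) (MonoidAlgebra.of _ M) ≫ u) *
        (res p res0 (ck.comp res0) ck rfl ≫ gj) := by
    rw [transP14, MonObj.comp_mul, res_univP14, GrpObj.comp_zpow, GrpObj.comp_zpow, resM, ← Category.assoc, res_comp,
      ← Category.assoc (res p res0 _ ck rfl), res_comp,
      res_congr p _ _ _ (RingHom.comp_id _) (map_const res0)]
  rw [hsplit] at hy
  have hconst : (dsPoint (Fin r → ℤ) (pt p (ck.comp res0)) (MonoidAlgebra.of _ M) ≫ u) *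
      (res p res0 (ck.comp res0) ck rfl ≫ gj) = res p res0 (ck.comp res0) ck rfl ≫ y := by
    haveI : IsReduced (Over.mk (pt p (ck.comp res0))).left :=
      inferInstanceAs (IsReduced (Spec (CommRingCat.of (MonoidAlgebra (IsLocalRing.ResidueField R) M))))
    set q := res p (ck.comp res0) ((toE (IsLocalRing.ResidueField R) r).comp (ck.comp res0))
      (toE (IsLocalRing.ResidueField R) r) rfl
    haveI : IsDominant q.left := by
      rw [isDominant_iff]
      refine (PrimeSpectrum.denseRange_comap_iff_ker_le_nilRadical _).mpr ?_
      refine le_of_eq_of_le ?_ bot_le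
      exact (RingHom.injective_iff_ker_eq_bot (toE (IsLocalRing.ResidueField R) r)).mp
        (IsFractionRing.injective (MonoidAlgebra (IsLocalRing.ResidueField R) M)
          (FractionRing (MonoidAlgebra (IsLocalRing.ResidueField R) M)))
    exact Over.OverMorphism.ext (ext_of_isDominant_of_isSeparated G.hom
      ((Over.w _).trans (Over.w _).symm) q.left (congrArg CommaMorphism.left hy))
  let ε : MonoidAlgebra (IsLocalRing.ResidueField R) M →+* IsLocalRing.ResidueField R :=
    (MonoidAlgebra.lift (IsLocalRing.ResidueField R) (IsLocalRing.ResidueField R) M 1).toRingHom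
  have hεc : ε.comp ck = RingHom.id _ := RingHom.ext fun x => by simp [ε, ck]
  have hε0 : ε.comp (ck.comp res0) = res0 := by rw [← RingHom.comp_assoc, hεc, RingHom.id_comp]
  have hye : gj = y := by
    have h1 := congrArg (res p (ck.comp res0) res0 ε hε0 ≫ ·) hconst
    simp only [MonObj.comp_mul] at h1
    rw [← Category.assoc, res_dsPoint,
      ← Category.assoc (res p (ck.comp res0) res0 ε _) (res p res0 _ ck rfl), res_comp,
      ← Category.assoc (res p (ck.comp res0) res0 ε _) (res p res0 _ ck rfl), res_comp] at h1
    have h2 : ((ε : MonoidAlgebra (IsLocalRing.ResidueField R) M →* IsLocalRing.ResidueField R)).comp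
        (MonoidAlgebra.of _ M) = 1 := MonoidHom.ext fun m => by simp [ε]
    rw [h2, map_one, MonObj.one_comp, _root_.one_mul,
      res_congr p res0 res0 _ (RingHom.id_comp _) hεc,
      show res p res0 res0 (RingHom.id _) (RingHom.id_comp _) = 𝟙 _ from
        Over.OverMorphism.ext (Spec.map_id _), Category.id_comp, Category.id_comp] at h1
    exact h1
  rwa [← hye, mul_eq_right] at hconst

end GrothLib.MonoMT14
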