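import Mathlib

/-!
Ring maps out of the sections of an affine open attached to points landing in it.
-/

universe u

namespace GrothLib.MonoMT14

open CategoryTheory CategoryTheory.Limits AlgebraicGeometry

variable {X Y : Scheme.{u}} {W : X.Opens} (hW : IsAffineOpen W) {C : Type u} [CommRing C]
variable (t : Spec (CommRingCat.of C) ⟶ X) (ht : ∀ x, t.base x ∈ W)

include ht in
theorem range_le : Set.range t ⊆ Set.range hW.fromSpec := by
  rw [IsAffineOpen.range_fromSpec]
  rintro _ ⟨x, rfl⟩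
  exact ht x

/-- The ring map out of `Γ(X, W)` of a point in the affine open `W`. -/
noncomputable def toW : Γ(X, W) →+* C :=
  (Spec.preimage (IsOpenImmersion.lift hW.fromSpec t (range_le hW t ht))).hom

theorem toW_fac : Spec.map (CommRingCat.ofHom (toW hW t ht)) ≫ hW.fromSpec = t := by
  rw [toW, show CommRingCat.ofHom (Spec.preimage (IsOpenImmersion.lift hW.fromSpec t (range_le hW t ht))).hom =
    Spec.preimage (IsOpenImmersion.lift hW.fromSpec t (range_le hW t ht)) from rfl, Spec.map_preimage,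
    IsOpenImmersion.lift_fac]

theorem toW_unique (φ : Γ(X, W) →+* C) (h : Spec.map (CommRingCat.ofHom φ) ≫ hW.fromSpec = t) :
    toW hW t ht = φ := by
  have h1 := (cancel_mono hW.fromSpec).mp ((toW_fac hW t ht).trans h.symm)
  exact congrArg CommRingCat.Hom.hom (Spec.map_injective h1)

theorem comp_mem {C' : Type u} [CommRing C'] (h : C →+* C') (t' : Spec (CommRingCat.of C') ⟶ X)
    (e : Spec.map (CommRingCat.ofHom h) ≫ t = t') (ht : ∀ x, t.base x ∈ W) (x) : t'.base x ∈ W := by
  subst e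
  exact ht _

theorem toW_comp {C' : Type u} [CommRing C'] (h : C →+* C') (t' : Spec (CommRingCat.of C') ⟶ X)
    (e : Spec.map (CommRingCat.ofHom h) ≫ t = t') (ht' : ∀ x, t'.base x ∈ W) :
    toW hW t' ht' = h.comp (toW hW t ht) :=
  toW_unique hW t' ht' _ (by
    rw [CommRingCat.ofHom_comp, Spec.map_comp, Category.assoc, toW_fac, e])

theorem toW_appLE (f : X ⟶ Y) {U : Y.Opens} (hU : IsAffineOpen U) (e : W ≤ f ⁻¹ᵁ U)
    (t' : Spec (CommRingCat.of C) ⟶ Y) (htf : t ≫ f = t') (ht' : ∀ x, t'.base x ∈ U) :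
    toW hU t' ht' = (toW hW t ht).comp (f.appLE U W e).hom :=
  toW_unique hU t' ht' _ (by
    rw [CommRingCat.ofHom_comp, CommRingCat.ofHom_hom, Spec.map_comp, Category.assoc,
      IsAffineOpen.SpecMap_appLE_fromSpec f hU hW, ← Category.assoc, toW_fac, htf])

/-- A prime sent into `W` has a basic neighbourhood sent into `W`. -/
theorem exists_basic {A : Type u} [CommRing A] (t : Spec (CommRingCat.of A) ⟶ X) (x : PrimeSpectrum A)
    (hx : t.base x ∈ W) : ∃ B : A, B ∉ x.asIdeal ∧
      ∀ (D : Type u) [CommRing D] (h : A →+* D), IsUnit (h B) →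
        ∀ y, (Spec.map (CommRingCat.ofHom h) ≫ t).base y ∈ W := by
  obtain ⟨_, ⟨B, rfl⟩, hxB, hBU⟩ := PrimeSpectrum.isTopologicalBasis_basic_opens.exists_subset_of_mem_open
    (show x ∈ (t ⁻¹ᵁ W).carrier from hx) (t ⁻¹ᵁ W).isOpen
  refine ⟨B, hxB, fun D _ h hu y => hBU ?_⟩
  show B ∉ (PrimeSpectrum.comap h y).asIdeal
  exact fun hy => y.isPrime.ne_top (Ideal.eq_top_of_isUnit_mem _ hy hu)

end GrothLib.MonoMT14
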